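import Cfsg.Agent.H752.EP.OwnRank
import Cfsg.Agent.H12.EP.Own
import Cfsg.Prelude.Def_KGroupFacts

/-!
# `Aut L` with `Out L` cyclic: ranks, `p`-subgroups outside the socle, the closed form of the bound (helper752)
-/

set_option autoImplicit false
set_option linter.unusedSectionVars false

namespace Cfsg.Agent.H752.EP

open Subgroup Cfsg.Agent.H284 Cfsg.Agent.H59.EP Cfsg.Agent.H528.EP Cfsg.Agent.H12.EP.BT Cfsg.Agent.H419.EP

universe u

/-- the rank of `Aut L` -/
theorem srank_aut {L : Type*} [Group L] [Finite L] (hZ : center L = ⊥) (hcyc : IsCyclic (MulAut L ⧸ Cfsg.Inn L))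
    {s k : ℕ} (hs : 0 < s) (h : SRank L s k) : SRank (MulAut L) s (k + 1) := by
  intro X h1 h2
  have hinj : Function.Injective (MulAut.conj : L →* MulAut L) := by
    rw [injective_iff_map_eq_one]
    intro a ha
    have h3 : a ∈ center L := by
      rw [mem_center_iff]
      intro g
      have h4 := DFunLike.congr_fun ha g
      rw [MulAut.conj_apply, MulAut.one_apply, mul_inv_eq_iff_eq_mul] at h4
      exact h4.symm
    rw [hZ, mem_bot] at h3
    exact h3
  have h3 := h ((X ⊓ (MulAut.conj : L →* MulAut L).range).comap MulAut.conj) (by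
    intro x hx y hy
    apply hinj
    rw [map_mul, map_mul]
    exact h1 _ hx.1 _ hy.1) (by
    intro x hx
    apply hinj
    rw [map_pow, map_one]
    exact h2 _ hx.1)
  have h4 : Nat.card ((X ⊓ (MulAut.conj : L →* MulAut L).range).comap (MulAut.conj : L →* MulAut L)) =
      Nat.card ↥(X ⊓ (MulAut.conj : L →* MulAut L).range) := by
    rw [Nat.card_congr (((X ⊓ (MulAut.conj : L →* MulAut L).range).comap (MulAut.conj : L →* MulAut L)).equivMapOfInjective
      _ hinj).toEquiv, Subgroup.map_comap_eq, inf_eq_right.2 inf_le_right]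
  rw [h4] at h3
  have hfin : Finite (MulAut L) := Finite.of_injective (fun a : MulAut L => (a : L → L)) DFunLike.coe_injective
  have hfq : Finite (MulAut L ⧸ Cfsg.Inn L) := Quotient.finite _
  let f : X → {c : MulAut L ⧸ Cfsg.Inn L // c ^ s = 1} := fun x => ⟨QuotientGroup.mk (x : MulAut L), by
    rw [← QuotientGroup.mk_pow, h2 x x.2]
    rfl⟩
  obtain ⟨h5, h6⟩ := card_ext (MulAut.conj : L →* MulAut L).range X f (by
    intro x y hxy
    have h7 : (QuotientGroup.mk (x : MulAut L) : MulAut L ⧸ Cfsg.Inn L) = QuotientGroup.mk (y : MulAut L) :=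
      congrArg Subtype.val hxy
    exact QuotientGroup.eq.1 h7) h3.1
  refine ⟨h5, h6.trans ?_⟩
  rw [pow_succ']
  exact Nat.mul_le_mul (card_pow_le hs) h3.2

/-- a group with cyclic Sylow `s`-subgroups -/
theorem srank_cyc {L : Type*} [Group L] [Finite L] {s : ℕ} [Fact s.Prime]
    (h : ∀ P : Sylow s L, IsCyclic (P : Subgroup L)) : SRank L s 1 := by
  intro X h1 h2
  have hs : s.Prime := Fact.out
  refine ⟨Nat.card_pos.ne', ?_⟩
  have hp : IsPGroup s X := by
    rintro ⟨y, hy⟩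
    exact ⟨1, Subtype.ext (by rw [pow_one]; exact h2 y hy)⟩
  obtain ⟨P, hP⟩ := hp.exists_le_sylow
  have := h P
  have hX : IsCyclic X := isCyclic_of_injective (Subgroup.inclusion hP) (Subgroup.inclusion_injective hP)
  obtain ⟨g, hg⟩ := IsCyclic.exists_generator (α := X)
  have h3 : Nat.card X = orderOf g := by
    rw [← Nat.card_zpowers, (eq_top_iff.2 fun x _ => hg x : zpowers g = ⊤), Subgroup.card_top]
  rw [h3, pow_one]
  exact Nat.le_of_dvd hs.pos (orderOf_dvd_of_pow_eq_one (Subtype.ext (h2 g g.2)))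

/-- small Sylow subgroups -/
theorem srank_of_not_dvd {L : Type*} [Group L] [Finite L] {s k : ℕ} (hs : s.Prime) (h : ¬ s ^ (k + 1) ∣ Nat.card L) :
    SRank L s k := by
  have : Fact s.Prime := ⟨hs⟩
  intro X _ h2
  refine ⟨Nat.card_pos.ne', ?_⟩
  have hp : IsPGroup s X := by
    rintro ⟨y, hy⟩
    exact ⟨1, Subtype.ext (by rw [pow_one]; exact h2 y hy)⟩
  obtain ⟨n, hn⟩ := (IsPGroup.iff_card).1 hp
  rw [hn]
  apply Nat.pow_le_pow_right hs.pos
  by_contra hlt
  push Not at hlt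
  exact h ((pow_dvd_pow s (by omega)).trans (hn ▸ X.card_subgroup_dvd_card))

/-- `p`-subgroups outside the socle are cyclic -/
theorem hout_of_cyc {Q : Type*} [Group Q] [Finite Q] {A N : Subgroup Q} {p : ℕ} {L : Type*} [Group L]
    (hS : LieSoc p A N) (e : N ≃* L) (hcyc : IsCyclic (MulAut L ⧸ Cfsg.Inn L)) :
    ∀ R : Subgroup Q, R ≤ A → IsPGroup p R → R ⊓ N = ⊥ → ∃ x ∈ R, R = zpowers x := by
  intro R hR _ hRN
  have hn : (N.subgroupOf A).Normal := ⟨by
    rintro ⟨n, hn'⟩ hn ⟨a, ha⟩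
    exact hS.nor a ha n hn⟩
  let g : A →* MulAut (N.subgroupOf A) := MulAut.conjNormal
  let E : (N.subgroupOf A) ≃* L := (Subgroup.subgroupOfEquivOfLe hS.le).trans e
  let f : A →* MulAut L := (MulAut.congr E).toMonoidHom.comp g
  have hfinj : ∀ a : A, f a = 1 → a = 1 := by
    rintro ⟨a, ha⟩ hfa
    have hga : g ⟨a, ha⟩ = 1 := (MulAut.congr E).injective (by rw [map_one]; exact hfa)
    apply Subtype.ext
    apply hS.cen a ha
    intro n hn
    have h4 := DFunLike.congr_fun hga ⟨⟨n, hS.le hn⟩, hn⟩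
    have h5 : a * n * a⁻¹ = n := by
      have := congrArg (fun y : (N.subgroupOf A) => ((y : A) : Q)) h4
      simpa [g, MulAut.conjNormal_apply] using this
    rw [mul_inv_eq_iff_eq_mul] at h5
    exact h5
  have hfN : ∀ x : N.subgroupOf A, f (x : A) = MulAut.conj (E x) := by
    intro x
    ext l
    obtain ⟨y, rfl⟩ := E.surjective l
    show E (g (x : A) (E.symm (E y))) = E x * E y * (E x)⁻¹
    rw [E.symm_apply_apply, ← map_mul, ← map_inv, ← map_mul]
    congr 1
  let φ : R →* MulAut L ⧸ Cfsg.Inn L := (QuotientGroup.mk' _).comp (f.comp (Subgroup.inclusion hR))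
  have hφ : Function.Injective φ := by
    rw [injective_iff_map_eq_one]
    rintro ⟨r, hr⟩ h
    have h1 : f ⟨r, hR hr⟩ ∈ Cfsg.Inn L := (QuotientGroup.eq_one_iff _).1 h
    obtain ⟨l, hl⟩ := h1
    obtain ⟨x, rfl⟩ := E.surjective l
    have h2 : f ((⟨r, hR hr⟩ : A) * (x : A)⁻¹) = 1 := by
      rw [map_mul, map_inv, hfN x, ← hl]
      exact mul_inv_cancel _
    have h3 := hfinj _ h2
    rw [mul_inv_eq_one] at h3
    have h4 : r = ((x : A) : Q) := congrArg Subtype.val h3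
    have h5 : r ∈ R ⊓ N := ⟨hr, by rw [h4]; exact x.2⟩
    rw [hRN, mem_bot] at h5
    exact Subtype.ext h5
  have hRc : IsCyclic R := isCyclic_of_injective φ hφ
  obtain ⟨g, hg⟩ := IsCyclic.exists_generator (α := R)
  refine ⟨g, g.2, ?_⟩
  ext x
  constructor
  · intro hx
    obtain ⟨k, hk⟩ := mem_zpowers_iff.1 (hg ⟨x, hx⟩)
    exact mem_zpowers_iff.2 ⟨k, by rw [← SubgroupClass.coe_zpow, hk]⟩
  · intro hx
    obtain ⟨k, rfl⟩ := mem_zpowers_iff.1 hx
    exact R.zpow_mem g.2 k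

/-- the numbers -/
theorem num_rank {n k x y E i q : ℕ} (hk : 2 ≤ k) (hn : 60 ≤ n) (hx : 6 * x ≤ n) (hy : 60 * y ≤ n ^ 2)
    (hE : 3600 * E ≤ n ^ 3) (hi : i ≤ 1 + (n + n + (n ^ k * x + y + E)) * (2 * x)) (hq : q = n * i) :
    q ≤ n ^ (k + 3) := by
  have hn0 : 0 < n := by omega
  have e1 : n ^ (k + 1) = n ^ k * n := pow_succ n k
  have e2 : n ^ (k + 2) = n ^ (k + 1) * n := pow_succ n (k + 1)
  have e3 : n ^ (k + 3) = n ^ (k + 2) * n := pow_succ n (k + 2)
  have h3 : n ^ 3 ≤ n ^ (k + 1) := Nat.pow_le_pow_right hn0 (by omega)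
  have h2 : 60 * n ^ 2 ≤ n ^ 3 := by
    rw [pow_succ n 2, mul_comm]
    exact Nat.mul_le_mul_left _ hn
  have h1 : 60 * n ≤ n ^ 2 := by rw [sq]; exact Nat.mul_le_mul_right _ hn
  have hC : 6 * (n ^ k * x) ≤ n ^ (k + 1) := by
    rw [e1, show 6 * (n ^ k * x) = n ^ k * (6 * x) by ring]
    exact Nat.mul_le_mul_left _ hx
  have hS : 2 * (n + n + (n ^ k * x + y + E)) ≤ n ^ (k + 1) := by
    generalize n ^ k * x = c at hC
    generalize n ^ (k + 1) = w at *
    generalize n ^ 3 = u at *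
    generalize n ^ 2 = v at *
    omega
  have h4 : (n + n + (n ^ k * x + y + E)) * (2 * x) ≤ n ^ (k + 1) * x := by
    calc (n + n + (n ^ k * x + y + E)) * (2 * x) = (2 * (n + n + (n ^ k * x + y + E))) * x := by ring
      _ ≤ _ := Nat.mul_le_mul_right _ hS
  have h5 : 6 * (n ^ (k + 1) * x) ≤ n ^ (k + 2) := by
    rw [e2, show 6 * (n ^ (k + 1) * x) = n ^ (k + 1) * (6 * x) by ring]
    exact Nat.mul_le_mul_left _ hx
  have h6 : i ≤ n ^ (k + 2) := by
    have h7 : 2 ≤ n ^ (k + 2) := by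
      calc 2 ≤ n := by omega
        _ = n ^ 1 := (pow_one n).symm
        _ ≤ n ^ (k + 2) := Nat.pow_le_pow_right hn0 (by omega)
    omega
  rw [hq, e3, mul_comm]
  exact Nat.mul_le_mul_right _ h6

/-- **the closed form** -/
theorem card_le_rank {Q : Type u} [Group Q] [Finite Q] {A N : Subgroup Q} {Γ : Subgroup (MulAut Q)} {p : ℕ}
    [Fact p.Prime] (hs : IsSimpleGroup Q) (h : EPT A Γ) (hg : TwoGen.{u}) (hS : LieSoc p A N)
    (hout : ∀ R : Subgroup Q, R ≤ A → IsPGroup p R → R ⊓ N = ⊥ → ∃ x ∈ R, R = zpowers x)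
    {k : ℕ} (hk : 2 ≤ k) (hr : ∀ s : ℕ, s.Prime → s ≠ p → SRank A s k) (h5 : ∀ s : ℕ, s.Prime → 5 ≤ s → SRank A s 60) :
    Nat.card Q ≤ Nat.card A ^ (k + 3) := by
  have h1 := EPT.index_own_m hs h hg hS (j := 1) hout (mLe_of_srank h5 (by norm_num)) (clsLe_rank hr)
    (E := Nat.card A ^ (2 + 1) / 3600) (fun _ => le_rfl)
  exact num_rank hk (sixty_le_card hS) (Nat.mul_div_le _ 6) (Nat.mul_div_le _ 60) (Nat.mul_div_le _ 3600) h1
    (A.card_mul_index).symm

end Cfsg.Agent.H752.EP
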