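import Cfsg.Agent.H12.EP.BT
import Cfsg.Agent.H210.Loc.TI
import Cfsg.Agent.Lib.Cores

/-!
# Canonical parabolics of groups with trivially intersecting Sylow `p`-subgroups (helper752)

`pars_of_ti`: the normalizers of the Sylow `p`-subgroups; `lieSoc_of_ti`.
-/

set_option autoImplicit false

namespace Cfsg.Agent.H752.EP

open Subgroup Cfsg.Agent.H12.EP.BT Cfsg.Agent.H210.Loc Cfsg.Agent.H419.EP
open scoped Pointwise

theorem pars_of_ti {p : ℕ} [Fact p.Prime] {Y : Type*} [Group Y] [Finite Y] (hTI : TI p Y)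
    (hn : ∀ P : Sylow p Y, normalizer ((P : Subgroup Y) : Set Y) ≠ ⊤) :
    Pars p Y (Set.range fun P : Sylow p Y => normalizer ((P : Subgroup Y) : Set Y)) := by
  refine ⟨?_, ?_, ?_⟩
  · rw [← Set.image_univ]
    refine (Set.ncard_image_le (Set.toFinite _)).trans ?_
    rw [Set.ncard_univ]
    obtain ⟨P⟩ : Nonempty (Sylow p Y) := inferInstance
    exact (Nat.le_of_dvd (Nat.pos_of_ne_zero Subgroup.index_ne_zero_of_finite) P.card_dvd_index).trans
      (Nat.le_of_dvd Nat.card_pos (P : Subgroup Y).index_dvd_card)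
  · rintro _ ⟨P, rfl⟩
    exact hn P
  · intro K N₀ hN₀ hnor hp h1
    set O : Subgroup Y := (Cfsg.pCore p K).map K.subtype with hO
    have hOK : O ≤ K := by
      rintro _ ⟨x, _, rfl⟩
      exact x.2
    have hNO : N₀ ≤ O := by
      have h2 : (N₀.subgroupOf K).Normal := ⟨fun n hn g => hnor g g.2 n hn⟩
      have h3 : N₀.subgroupOf K ≤ Cfsg.pCore p K := Cfsg.Agent.Lib.Cores.le_pCore h2 hp.comap_subtype
      intro x hx
      exact ⟨⟨x, hN₀ hx⟩, h3 hx, rfl⟩
    have hO1 : O ≠ ⊥ := by
      intro h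
      apply h1
      rw [eq_bot_iff, ← h]
      exact hNO
    have hOp : IsPGroup p O := (Cfsg.Agent.Lib.Cores.pCore_isPGroup p).map _
    obtain ⟨P, hP⟩ := hOp.exists_le_sylow
    have key : ∀ ψ : MulAut Y, (∀ x ∈ O, ψ x ∈ O) → ψ • P = P := by
      intro ψ hψ
      by_contra hne
      apply hO1
      rw [eq_bot_iff, ← hTI _ _ hne]
      refine le_inf ?_ hP
      have hle : O.map ψ.toMonoidHom ≤ O := by
        rintro _ ⟨x, hx, rfl⟩
        exact hψ x hx
      have heq : O.map ψ.toMonoidHom = O := by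
        apply Subgroup.eq_of_le_of_card_ge hle
        exact (Nat.card_congr (O.equivMapOfInjective ψ.toMonoidHom ψ.injective).toEquiv).le
      intro x hx
      rw [← heq] at hx
      obtain ⟨y, hy, rfl⟩ := hx
      rw [Sylow.pointwise_smul_def]
      exact Subgroup.smul_mem_pointwise_smul y ψ (P : Subgroup Y) (hP hy)
    refine ⟨_, ⟨P, rfl⟩, ?_, ?_⟩
    · intro k hk
      show k ∈ normalizer ((P : Subgroup Y) : Set Y)
      apply Sylow.smul_eq_iff_mem_normalizer.1
      refine key (MulAut.conj k) ?_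
      rintro _ ⟨x, hx, rfl⟩
      have hnn : (Cfsg.pCore p K).Normal := Cfsg.Agent.Lib.Cores.pCore_normal_inst p
      exact ⟨_, hnn.conj_mem x hx ⟨k, hk⟩, rfl⟩
    · intro φ hφ
      have hφO : ∀ x ∈ O, φ x ∈ O := by
        let f : K →* K := (φ.toMonoidHom.comp K.subtype).codRestrict K (fun y => hφ y y.2)
        have hf : Function.Injective f := by
          intro y z e
          have e' : φ y = φ z := Subtype.ext_iff.1 e
          exact Subtype.ext (φ.injective e')
        let τ : MulAut K := MulEquiv.ofBijective f (Finite.injective_iff_bijective.1 hf)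
        rintro _ ⟨x, hx, rfl⟩
        have hch : (Cfsg.pCore p K).Characteristic := Cfsg.Agent.Lib.Cores.pCore_characteristic p
        have h2 : τ x ∈ Cfsg.pCore p K := by
          have h3 := Subgroup.characteristic_iff_map_eq.1 hch τ
          rw [← h3]
          exact ⟨x, hx, rfl⟩
        exact ⟨τ x, h2, rfl⟩
      have h2 := key φ hφO
      intro x hx
      have hx' : x • P = P := Sylow.smul_eq_iff_mem_normalizer.2 hx
      show φ x ∈ normalizer ((P : Subgroup Y) : Set Y)
      apply Sylow.smul_eq_iff_mem_normalizer.1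
      have h3 : MulAut.conj (φ x) = φ * MulAut.conj x * φ⁻¹ := by
        ext y
        simp [MulAut.conj_apply]
      show MulAut.conj (φ x) • P = P
      rw [h3, mul_smul, mul_smul]
      have h4 : φ⁻¹ • P = P := by rw [inv_smul_eq_iff, h2]
      rw [h4]
      have h5 : MulAut.conj x • P = P := hx'
      rw [h5, h2]

/-- from `HasSoc` -/
theorem lieSoc_of_ti {p : ℕ} [Fact p.Prime] {Q : Type*} [Group Q] [Finite Q] {A : Subgroup Q} {L : Type*} [Group L]
    (hsoc : HasSoc A L) (hL : IsSimpleGroup L) (hLn : ¬ ∀ a b : L, a * b = b * a) (hTI : TI p L)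
    (hp : p ∣ Nat.card L) :
    ∃ N : Subgroup Q, LieSoc p A N ∧ Nonempty (N ≃* L) := by
  obtain ⟨N, h1, h2, h3, ⟨e⟩⟩ := hsoc
  have hLfin : Finite L := Finite.of_equiv _ e.toEquiv
  have hNs : IsSimpleGroup N := e.isSimpleGroup
  have hNn : ¬ ∀ a b : N, a * b = b * a := by
    intro h
    apply hLn
    intro a b
    apply e.symm.injective
    rw [map_mul, map_mul]
    exact h _ _
  refine ⟨N, ⟨h1, h2, h3, hNs, ?_, ⟨_, pars_of_ti (hTI.of_equiv e.symm) ?_⟩⟩, ⟨e⟩⟩
  · intro h
    apply hNn
    intro a b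
    exact Subtype.ext (h a a.2 b b.2)
  · intro P hP
    have hPn : (P : Subgroup N).Normal := Subgroup.normalizer_eq_top_iff.1 hP
    rcases hPn.eq_bot_or_eq_top with h4 | h4
    · have h5 : p ∣ Nat.card (P : Subgroup N) := P.dvd_card_of_dvd_card (by rwa [Nat.card_congr e.toEquiv])
      rw [h4, Subgroup.card_bot] at h5
      exact (Fact.out : p.Prime).one_lt.ne' (Nat.dvd_one.1 h5)
    · have h6 : IsPGroup p N := (h4 ▸ P.2 : IsPGroup p (⊤ : Subgroup N)).of_equiv Subgroup.topEquiv
      have h7 : Group.IsSolvable N := by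
        have := h6.isNilpotent
        infer_instance
      exact hNn (IsSimpleGroup.comm_iff_isSolvable.2 h7)

end Cfsg.Agent.H752.EP
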