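import Cfsg.Agent.H752.EP.SRank
import Cfsg.Agent.H199.PslAut
import Cfsg.Agent.ClassicalGeometry.PSUAutMain
import Cfsg.Agent.Schreier.PSU
import Cfsg.Agent.LieRecognition.FieldSemilinear

/-!
# The `s`-rank of `Aut PSL_3(F)` and `Aut PSU_3(F)` (helper752)

`srank_psl3`, `srank_psu3`: for a prime `s` different from the characteristic every elementary abelian `s`-subgroup of
`Aut PSL_3(F)`, `Aut PSU_3(F)` has order at most `s^4`, `s^3`.
-/

set_option autoImplicit false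

namespace Cfsg.Agent.H752.EP

open Subgroup

section psl

open Cfsg.Agent.H199.PslAut

variable {F : Type*} [Field F]

/-- `α = Ψ(g) φ(σ) ι^b` -/
def Frm (α : MulAut (Matrix.ProjectiveSpecialLinearGroup (Fin 3) F)) (σ : F ≃+* F) (b : ℕ) : Prop :=
  ∃ g : GL (Fin 3) F, α = Psi 3 F g * (phi 3 F σ * iot 3 F ^ b)

theorem iot_pow_Psi (b : ℕ) (g : GL (Fin 3) F) : ∃ g', iot 3 F ^ b * Psi 3 F g = Psi 3 F g' * iot 3 F ^ b := by
  induction b with
  | zero => exact ⟨g, by rw [pow_zero, one_mul, mul_one]⟩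
  | succ b ih =>
    obtain ⟨g', h⟩ := ih
    exact ⟨itGL g', by rw [pow_succ', mul_assoc, h, ← mul_assoc, iot_mul_Psi, mul_assoc]⟩

theorem iot_pow_phi (b : ℕ) (σ : F ≃+* F) : iot 3 F ^ b * phi 3 F σ = phi 3 F σ * iot 3 F ^ b := by
  induction b with
  | zero => rw [pow_zero, one_mul, mul_one]
  | succ b ih => rw [pow_succ', mul_assoc, ih, ← mul_assoc, iot_mul_phi, mul_assoc]

theorem Frm.mul {α β : MulAut (Matrix.ProjectiveSpecialLinearGroup (Fin 3) F)} {σ τ : F ≃+* F} {b c : ℕ}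
    (h1 : Frm α σ b) (h2 : Frm β τ c) : Frm (α * β) (σ * τ) (b + c) := by
  obtain ⟨g, rfl⟩ := h1
  obtain ⟨g', rfl⟩ := h2
  obtain ⟨g'', h⟩ := iot_pow_Psi b g'
  refine ⟨g * mapGL σ g'', ?_⟩
  calc Psi 3 F g * (phi 3 F σ * iot 3 F ^ b) * (Psi 3 F g' * (phi 3 F τ * iot 3 F ^ c))
      = Psi 3 F g * phi 3 F σ * (iot 3 F ^ b * Psi 3 F g') * phi 3 F τ * iot 3 F ^ c := by simp only [mul_assoc]
    _ = Psi 3 F g * (phi 3 F σ * Psi 3 F g'') * (iot 3 F ^ b * phi 3 F τ) * iot 3 F ^ c := by rw [h]; simp only [mul_assoc]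
    _ = _ := by
      rw [phi_mul_Psi, iot_pow_phi, map_mul (Psi 3 F), map_mul (phi 3 F), pow_add]
      simp only [mul_assoc]

theorem Frm.one : Frm (1 : MulAut (Matrix.ProjectiveSpecialLinearGroup (Fin 3) F)) 1 0 :=
  ⟨1, by rw [map_one, map_one, pow_zero, mul_one, mul_one]⟩

theorem Frm.pow {α : MulAut (Matrix.ProjectiveSpecialLinearGroup (Fin 3) F)} {σ : F ≃+* F} {b : ℕ}
    (h : Frm α σ b) (k : ℕ) : Frm (α ^ k) (σ ^ k) (k * b) := by
  induction k with
  | zero => rw [pow_zero, pow_zero, zero_mul]; exact Frm.one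
  | succ k ih => rw [pow_succ, pow_succ, Nat.succ_mul]; exact ih.mul h

theorem iot_pow_two (b : ℕ) : iot 3 F ^ (2 * b) = 1 := by rw [pow_mul, sq, iot_mul_iot, one_pow]

theorem Frm.of_one {σ : F ≃+* F} {b : ℕ} (h : Frm (1 : MulAut (Matrix.ProjectiveSpecialLinearGroup (Fin 3) F)) σ b) :
    σ = 1 ∧ ∃ c, b = 2 * c := by
  obtain ⟨g, h⟩ := h
  rcases Nat.even_or_odd' b with ⟨c, rfl | rfl⟩
  · rw [iot_pow_two, mul_one] at h
    have h1 : Psi 3 F g * phi 3 F σ = phi 3 F 1 := by rw [← h, map_one]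
    exact ⟨(Psi_phi_eq (by norm_num) h1).2, c, rfl⟩
  · exfalso
    rw [pow_succ, iot_pow_two, one_mul, ← mul_assoc] at h
    have h1 : Psi 3 F g * phi 3 F σ * iot 3 F = phi 3 F 1 := by rw [← h, map_one]
    exact not_graph' (by norm_num) h1

theorem Frm.range {α : MulAut (Matrix.ProjectiveSpecialLinearGroup (Fin 3) F)} {c : ℕ} (h : Frm α 1 (2 * c)) :
    α ∈ (Psi 3 F).range := by
  obtain ⟨g, rfl⟩ := h
  rw [iot_pow_two, mul_one, map_one, mul_one]
  exact ⟨g, rfl⟩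

theorem exists_Frm [Fintype F] (α : MulAut (Matrix.ProjectiveSpecialLinearGroup (Fin 3) F)) :
    ∃ (σ : F ≃+* F) (b : Fin 2), Frm α σ b := by
  rcases exists_form (by norm_num) α with ⟨g, σ, h⟩ | ⟨-, g, σ, h⟩
  · exact ⟨σ, 0, g, by rw [h, Fin.val_zero, pow_zero, mul_one]⟩
  · exact ⟨σ, 1, g, by rw [h, Fin.val_one, pow_one, mul_assoc]⟩

/-- **the `s`-rank of `Aut PSL_3(F)`** -/
theorem srank_psl3 [Fintype F] {s : ℕ} (hs : s.Prime) (hsF : (s : F) ≠ 0) :
    SRank (MulAut (Matrix.ProjectiveSpecialLinearGroup (Fin 3) F)) s 4 := by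
  have hcyc : IsCyclic (F ≃+* F) := LieRecognition.FieldSemilinear.isCyclic_ringAut F
  have hfin : Finite (F ≃+* F) := Finite.of_injective (fun σ : F ≃+* F => (σ : F → F)) DFunLike.coe_injective
  intro X h1 h2
  choose σ b hσ using exists_Frm (F := F)
  have hσs : ∀ x : X, σ x ^ s = 1 := by
    intro x
    have h3 := (hσ x).pow s
    rw [h2 x x.2] at h3
    exact h3.of_one.1
  let f : X → {c : F ≃+* F // c ^ s = 1} × Fin 2 := fun x => (⟨σ x, hσs x⟩, b x)
  have hf : ∀ x y : X, f x = f y →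
      (x : MulAut (Matrix.ProjectiveSpecialLinearGroup (Fin 3) F))⁻¹ * y ∈ (Psi 3 F).range := by
    intro x y h
    have h3 : σ x = σ y := congrArg (fun z => (z.1 : F ≃+* F)) h
    have h4 : b x = b y := congrArg (fun z => z.2) h
    obtain ⟨τ, c, h5⟩ := exists_Frm ((x : MulAut (Matrix.ProjectiveSpecialLinearGroup (Fin 3) F))⁻¹)
    have h6 : Frm (1 : MulAut (Matrix.ProjectiveSpecialLinearGroup (Fin 3) F)) (τ * σ x) (c + b x) := by
      have := h5.mul (hσ x)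
      rwa [inv_mul_cancel] at this
    have h7 := h5.mul (hσ y)
    rw [← h3, ← h4, h6.of_one.1] at h7
    obtain ⟨d, hd⟩ := h6.of_one.2
    rw [hd] at h7
    exact h7.range
  have h3 := card_layer hs hsF (Psi 3 F) (MonoidHom.id _) (by
    intro g hg
    obtain ⟨u, rfl⟩ := (Psi_eq_one_iff (by norm_num)).1 hg
    exact ⟨u, rfl⟩) (by
    rintro g ⟨c, hc⟩
    rw [MonoidHom.id_apply] at hc
    have hc0 : c ≠ 0 := by
      rintro rfl
      rw [map_zero] at hc
      exact g.ne_zero hc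
    exact (Psi_eq_one_iff (by norm_num)).2 ⟨Units.mk0 c hc0, Units.ext hc⟩)
    (X ⊓ (Psi 3 F).range) (fun x hx y hy => h1 x hx.1 y hy.1) (fun x hx => h2 x hx.1) inf_le_right
  obtain ⟨h4, h5⟩ := card_ext (Psi 3 F).range X f hf h3.1
  refine ⟨h4, h5.trans ?_⟩
  have h6 : Nat.card ({c : F ≃+* F // c ^ s = 1} × Fin 2) ≤ s * 2 := by
    rw [Nat.card_prod, Nat.card_fin]
    exact Nat.mul_le_mul_right _ (card_pow_le hs.pos)
  calc _ ≤ (s * 2) * s ^ 2 := Nat.mul_le_mul h6 h3.2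
    _ ≤ (s * s) * s ^ 2 := Nat.mul_le_mul_right _ (Nat.mul_le_mul_left _ hs.two_le)
    _ = s ^ 4 := by ring

end psl

section psu

open Cfsg.Agent.LieClassical.HermBasic Cfsg.Agent.ClassicalGeometry.PSUAutBasic
open Cfsg.Agent.ClassicalGeometry.PSUAutCount (toAut gm gm_mul gm_one gm_mul_inv gm_inv_mul eq_of_toAut_eq toAut_sc_mul gm_sc_mul sc gm_inj herm_gm)
open Cfsg.Agent.Schreier.PSU (f₁ f₂ toAut_eq conj_field mapGU)

variable {F : Type*} [Field F] [Fintype F] {q : ℕ}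

/-- **the `s`-rank of `Aut PSU_3(F)`** -/
theorem srank_psu3 (hF : Fintype.card F = q ^ 2) (hq : q ≠ 2) {s : ℕ} (hs : s.Prime) (hsF : (s : F) ≠ 0) :
    SRank (MulAut (PSU 3 F q)) s 3 := by
  have hcyc : IsCyclic (F ≃+* F) := LieRecognition.FieldSemilinear.isCyclic_ringAut F
  have hfin : Finite (F ≃+* F) := Finite.of_injective (fun σ : F ≃+* F => (σ : F → F)) DFunLike.coe_injective
  intro X h1 h2
  have hex : ∀ α : MulAut (PSU 3 F q), ∃ (ρ : F ≃+* F) (A : GU 3 F q), α = f₁ A * f₂ ρ := by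
    intro α
    obtain ⟨A, ρ, h⟩ := ClassicalGeometry.PSUAutMain.exists_toAut hF (by norm_num) (fun h => hq h.2) α
    exact ⟨ρ, A, by rw [h, toAut_eq]⟩
  choose σ hσ using hex
  have hmul : ∀ {α β : MulAut (PSU 3 F q)} {ρ τ : F ≃+* F}, (∃ A, α = f₁ A * f₂ ρ) → (∃ A, β = f₁ A * f₂ τ) →
      ∃ A, α * β = f₁ A * f₂ (ρ * τ) := by
    rintro _ _ ρ τ ⟨A, rfl⟩ ⟨B, rfl⟩
    refine ⟨A * mapGU ρ B, ?_⟩
    rw [map_mul, map_mul, ← conj_field]
    group
  have hone : ∀ {ρ : F ≃+* F}, (∃ A, (1 : MulAut (PSU 3 F q)) = f₁ A * f₂ ρ) → ρ = 1 := by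
    rintro ρ ⟨A, h⟩
    have h3 : toAut (1 : GU 3 F q) (1 : F ≃+* F) = toAut A ρ := by
      rw [toAut_eq, toAut_eq, ← h, map_one, map_one, one_mul]
    exact (eq_of_toAut_eq hF (by norm_num) h3).1
  have hpow : ∀ {α : MulAut (PSU 3 F q)} {ρ : F ≃+* F} (k : ℕ), (∃ A, α = f₁ A * f₂ ρ) →
      ∃ A, α ^ k = f₁ A * f₂ (ρ ^ k) := by
    intro α ρ k h
    induction k with
    | zero => exact ⟨1, by rw [pow_zero, pow_zero, map_one, map_one, one_mul]⟩
    | succ k ih =>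
      rw [pow_succ, pow_succ]
      exact hmul ih h
  have hσs : ∀ x : X, σ x ^ s = 1 := by
    intro x
    have h3 := hpow s (hσ x)
    rw [h2 x x.2] at h3
    exact hone h3
  let f : X → {c : F ≃+* F // c ^ s = 1} := fun x => ⟨σ x, hσs x⟩
  have hf : ∀ x y : X, f x = f y →
      (x : MulAut (PSU 3 F q))⁻¹ * y ∈ (f₁ : GU 3 F q →* MulAut (PSU 3 F q)).range := by
    intro x y h
    have h3 : σ x = σ y := congrArg Subtype.val h
    have h6 : σ (x : MulAut (PSU 3 F q))⁻¹ * σ x = 1 := by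
      have := hmul (hσ (x : MulAut (PSU 3 F q))⁻¹) (hσ x)
      rw [inv_mul_cancel] at this
      exact hone this
    obtain ⟨A, h7⟩ := hmul (hσ (x : MulAut (PSU 3 F q))⁻¹) (hσ y)
    rw [← h3, h6, map_one, mul_one] at h7
    exact ⟨A, h7.symm⟩
  have h3 := card_layer hs hsF (f₁ : GU 3 F q →* MulAut (PSU 3 F q)) (Subgroup.subtype _) (by
    intro g hg
    have h4 : toAut (1 : GU 3 F q) (1 : F ≃+* F) = toAut g 1 := by
      rw [toAut_eq, toAut_eq, hg, map_one, map_one, one_mul]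
    obtain ⟨-, c, -, h5⟩ := eq_of_toAut_eq hF (by norm_num) h4
    refine ⟨c, ?_⟩
    show gm g = _
    rw [h5, gm_one]
    ext i j
    by_cases hij : i = j
    · subst hij
      simp
    · simp [hij]) (by
    rintro g ⟨c, hc⟩
    have hc' : gm g = Matrix.scalar (Fin 3) c := hc
    have h4 := herm_gm g (Pi.single 0 1) (Pi.single 0 1)
    have h5 : c * c ^ q = 1 := by
      have h6 : ∀ v, (gm g).mulVec v = c • v := by
        intro v
        rw [hc', Matrix.scalar_apply]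
        ext i
        simp [Matrix.mulVec_diagonal]
      rw [h6, herm_smul_left, herm_smul_right, herm_single_left, Pi.single_eq_same, one_pow] at h4
      linear_combination h4
    have h7 : g = sc 3 ⟨c, h5⟩ * 1 := by
      apply gm_inj
      rw [gm_sc_mul, hc', gm_one]
      ext i j
      by_cases hij : i = j
      · subst hij
        simp
      · simp [hij]
    have h8 : toAut g (1 : F ≃+* F) = toAut 1 1 := by rw [h7, toAut_sc_mul]
    rw [toAut_eq, toAut_eq, map_one, mul_one, map_one, one_mul] at h8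
    exact h8)
    (X ⊓ (f₁ : GU 3 F q →* MulAut (PSU 3 F q)).range) (fun x hx y hy => h1 x hx.1 y hy.1) (fun x hx => h2 x hx.1)
    inf_le_right
  obtain ⟨h4, h5⟩ := card_ext (f₁ : GU 3 F q →* MulAut (PSU 3 F q)).range X f hf h3.1
  refine ⟨h4, h5.trans ?_⟩
  calc _ ≤ s * s ^ 2 := Nat.mul_le_mul (card_pow_le hs.pos) h3.2
    _ = s ^ 3 := by ring

end psu

end Cfsg.Agent.H752.EP
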