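import Cfsg.Agent.H752.EP.SRank

/-!
# The `s`-rank of isometry groups, `s` odd (helper752)

`isom_index`: `ρ : Y →* GL_n(F)` with commuting image preserving a nondegenerate bilinear form `J`, all `ρ(x)^s = 1`,
`s` an odd prime different from the characteristic: `ker ρ` has index at most `s^(n/2)`.
-/

set_option autoImplicit false

open Polynomial Module

namespace Cfsg.Agent.H752.EP

variable {F : Type*} [Field F] {n : ℕ}

theorem Tm_apply (A : Matrix (Fin n) (Fin n) F) (v : Fin n → AlgebraicClosure F) :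
    Tm F n A v = (A.map (algebraMap F (AlgebraicClosure F))).mulVec v := rfl

/-- half of the weights -/
theorem exists_half {α : Type*} (Ω : Finset α) (i : α → α) (hi : ∀ a ∈ Ω, i a ∈ Ω) (hii : ∀ a, i (i a) = a) :
    ∃ R ⊆ Ω, 2 * R.card ≤ Ω.card ∧ ∀ a ∈ Ω, i a ≠ a → a ∈ R ∨ i a ∈ R := by
  classical
  let r : α → α → Prop := WellOrderingRel
  have htr : ∀ a b, r a b ∨ a = b ∨ r b a := fun a b => trichotomous_of r a b
  have has : ∀ a b, r a b → ¬ r b a := fun a b h h' => asymm_of r h h'
  refine ⟨Ω.filter fun a => r a (i a), Finset.filter_subset _ _, ?_, ?_⟩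
  · have h1 : (Ω.filter fun a => r a (i a)).card = (Ω.filter fun a => r (i a) a).card := by
      refine Finset.card_bij (fun a _ => i a) ?_ ?_ ?_
      · intro a ha
        rw [Finset.mem_filter] at ha ⊢
        exact ⟨hi a ha.1, by rw [hii]; exact ha.2⟩
      · intro a _ b _ hab
        rw [← hii a, hab, hii]
      · intro b hb
        rw [Finset.mem_filter] at hb
        exact ⟨i b, Finset.mem_filter.2 ⟨hi b hb.1, by rw [hii]; exact hb.2⟩, hii b⟩
    have h2 : Disjoint (Ω.filter fun a => r a (i a)) (Ω.filter fun a => r (i a) a) := by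
      rw [Finset.disjoint_left]
      intro a ha hb
      exact has _ _ (Finset.mem_filter.1 ha).2 (Finset.mem_filter.1 hb).2
    have h3 : ((Ω.filter fun a => r a (i a)) ∪ (Ω.filter fun a => r (i a) a)).card ≤ Ω.card :=
      Finset.card_le_card (Finset.union_subset (Finset.filter_subset _ _) (Finset.filter_subset _ _))
    rw [Finset.card_union_of_disjoint h2] at h3
    omega
  · intro a ha hne
    rcases htr a (i a) with h | h | h
    · exact Or.inl (Finset.mem_filter.2 ⟨ha, h⟩)
    · exact absurd h.symm hne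
    · exact Or.inr (Finset.mem_filter.2 ⟨hi a ha, by rw [hii]; exact h⟩)

/-- **isometries** -/
theorem isom_index {s : ℕ} (hs : s.Prime) (hs2 : s ≠ 2) (hsF : (s : F) ≠ 0) {Y : Type*} [Group Y]
    (ρ : Y →* GL (Fin n) F) (hcomm : ∀ x y, ρ x * ρ y = ρ y * ρ x) (hpow : ∀ x, ρ x ^ s = 1)
    (J : Matrix (Fin n) (Fin n) F) (hJ : J.det ≠ 0)
    (hJρ : ∀ x, (ρ x : Matrix (Fin n) (Fin n) F).transpose * J * (ρ x : Matrix (Fin n) (Fin n) F) = J)
    (Z : Subgroup Y) (hZ : ∀ x, ρ x = 1 → x ∈ Z) :
    Z.index ≠ 0 ∧ Z.index ≤ s ^ (n / 2) := by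
  classical
  set K := AlgebraicClosure F with hK
  set T : Y → Module.End K (Fin n → K) := fun x => Tm F n (ρ x : Matrix (Fin n) (Fin n) F) with hT
  have hTm : ∀ x y, T (x * y) = T x * T y := fun x y => by
    show Tm F n (ρ (x * y) : Matrix (Fin n) (Fin n) F) = _
    rw [map_mul, Units.val_mul, map_mul]
  have hT1 : T 1 = 1 := by
    show Tm F n (ρ 1 : Matrix (Fin n) (Fin n) F) = 1
    rw [map_one, Units.val_one, map_one]
  have hTc : ∀ x y, Commute (T x) (T y) := by
    intro x y
    show T x * T y = T y * T x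
    rw [← hTm, ← hTm]
    show Tm F n (ρ (x * y) : Matrix (Fin n) (Fin n) F) = Tm F n (ρ (y * x) : Matrix (Fin n) (Fin n) F)
    rw [map_mul, map_mul, hcomm]
  have hsK : (s : K) ≠ 0 := by
    intro h
    apply hsF
    apply (algebraMap F K).injective
    rw [map_natCast, map_zero, h]
  -- the `s`-th powers
  have hTs : ∀ x, T x ^ s = 1 := by
    intro x
    show Tm F n (ρ x : Matrix (Fin n) (Fin n) F) ^ s = _
    rw [← map_pow, ← Units.val_pow_eq_pow_val, hpow, Units.val_one, map_one]
  -- semisimplicity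
  have hss : ∀ x μ, (T x).maxGenEigenspace μ = (T x).eigenspace μ := by
    intro x μ
    have hsep : (X ^ s - C 1 : K[X]).Separable := separable_X_pow_sub_C 1 hsK one_ne_zero
    have h2 : aeval (T x) (X ^ s - C 1 : K[X]) = 0 := by
      rw [map_sub, map_pow, aeval_X, aeval_C, hTs, map_one, sub_self]
    have h3 := Module.End.isSemisimple_of_squarefree_aeval_eq_zero hsep.squarefree h2
    exact Module.End.IsFinitelySemisimple.maxGenEigenspace_eq_eigenspace h3.isFinitelySemisimple μ
  set W : (Y → K) → Submodule K (Fin n → K) := fun χ => ⨅ x, (T x).maxGenEigenspace (χ x) with hW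
  have htop : ⨆ χ, W χ = ⊤ :=
    Module.End.iSup_iInf_maxGenEigenspace_eq_top_of_iSup_maxGenEigenspace_eq_top_of_commute T
      (fun x y _ => hTc x y) (fun x => Module.End.iSup_maxGenEigenspace_eq_top (T x))
  have hind : iSupIndep W := Module.End.independent_iInf_maxGenEigenspace_of_forall_mapsTo T
    (fun x y φ => Module.End.mapsTo_maxGenEigenspace_of_comm (hTc y x) φ)
  have hev : ∀ χ, ∀ v ∈ W χ, ∀ x, T x v = χ x • v := by
    intro χ v hv x
    have h1 : v ∈ (T x).maxGenEigenspace (χ x) := (Submodule.mem_iInf _).1 hv x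
    rw [hss] at h1
    exact Module.End.mem_eigenspace_iff.1 h1
  -- the characters
  have hfs : {χ | W χ ≠ ⊥}.Finite := WellFoundedGT.finite_ne_bot_of_iSupIndep hind
  have hfin : Finite {χ // W χ ≠ ⊥} := hfs.to_subtype
  have : Fintype {χ // W χ ≠ ⊥} := Fintype.ofFinite _
  let Ω : Finset (Y → K) := hfs.toFinset
  have hΩ : ∀ χ, χ ∈ Ω ↔ W χ ≠ ⊥ := fun χ => by rw [Set.Finite.mem_toFinset]; rfl
  have hcard : Ω.card ≤ n := by
    have h1 := hind.subtype_ne_bot_le_finrank
    rw [Module.finrank_fin_fun] at h1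
    have h2 : Ω.card = Fintype.card {χ // W χ ≠ ⊥} := by
      rw [Fintype.card_of_subtype Ω fun χ => hΩ χ]
    rwa [h2]
  have hmul : ∀ χ, W χ ≠ ⊥ → ∀ x y, χ (x * y) = χ x * χ y := by
    intro χ hχ x y
    obtain ⟨v, hv, hv0⟩ := Submodule.exists_mem_ne_zero_of_ne_bot hχ
    have h1 := hev χ v hv (x * y)
    rw [hTm, Module.End.mul_apply, hev χ v hv y, map_smul, hev χ v hv x, smul_smul] at h1
    have h2 : χ y * χ x = χ (x * y) := smul_left_injective K hv0 h1
    rw [← h2, mul_comm]
  have hpw : ∀ χ, W χ ≠ ⊥ → ∀ x, χ x ^ s = 1 := by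
    intro χ hχ x
    obtain ⟨v, hv, hv0⟩ := Submodule.exists_mem_ne_zero_of_ne_bot hχ
    have h3 : ∀ k : ℕ, (T x ^ k) v = (χ x ^ k) • v := by
      intro k
      induction k with
      | zero => simp
      | succ k ih => rw [pow_succ, Module.End.mul_apply, hev χ v hv x, map_smul, ih, smul_smul, pow_succ, mul_comm]
    have h4 := h3 s
    rw [hTs, Module.End.one_apply] at h4
    have h5 : (1 : K) • v = (χ x ^ s) • v := by rw [one_smul]; exact h4
    exact (smul_left_injective K hv0 h5).symm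
  have hne0 : ∀ χ, W χ ≠ ⊥ → ∀ x, χ x ≠ 0 := by
    intro χ hχ x h
    have h1 := hpw χ hχ x
    rw [h, zero_pow hs.ne_zero] at h1
    exact zero_ne_one h1
  -- the form
  set JK : Matrix (Fin n) (Fin n) K := J.map (algebraMap F K) with hJK
  have hJKdet : JK.det ≠ 0 := by
    have h1 : JK.det = algebraMap F K J.det := by
      rw [RingHom.map_det]
      rfl
    rw [h1]
    intro h
    exact hJ ((algebraMap F K).injective (by rw [h, map_zero]))
  have hinv : ∀ x v w, (T x v) ⬝ᵥ JK.mulVec (T x w) = v ⬝ᵥ JK.mulVec w := by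
    intro x v w
    set M : Matrix (Fin n) (Fin n) K := (ρ x : Matrix (Fin n) (Fin n) F).map (algebraMap F K) with hM
    have h1 : ∀ v, T x v = M.mulVec v := fun v => rfl
    have h2 : M.transpose * JK * M = JK := by
      have h3 := congrArg (fun N : Matrix (Fin n) (Fin n) F => N.map (algebraMap F K)) (hJρ x)
      simp only [Matrix.map_mul] at h3
      exact h3
    rw [h1, h1, ← Matrix.vecMul_transpose, Matrix.dotProduct_mulVec, Matrix.vecMul_vecMul, Matrix.dotProduct_mulVec,
      Matrix.vecMul_vecMul, h2, ← Matrix.dotProduct_mulVec]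
  have hΩinv : ∀ χ ∈ Ω, (fun x => (χ x)⁻¹) ∈ Ω := by
    intro χ hχ
    by_contra hcon
    rw [hΩ] at hχ
    obtain ⟨v, hv, hv0⟩ := Submodule.exists_mem_ne_zero_of_ne_bot hχ
    have h1 : ∀ ψ, ∀ w ∈ W ψ, v ⬝ᵥ JK.mulVec w = 0 := by
      intro ψ w hw
      by_cases hψ : W ψ = ⊥
      · rw [hψ, Submodule.mem_bot] at hw
        rw [hw, Matrix.mulVec_zero, dotProduct_zero]
      · obtain ⟨x, hx⟩ : ∃ x, χ x * ψ x ≠ 1 := by
          by_contra hno
          push Not at hno
          apply hcon
          rw [hΩ]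
          have h3 : (fun x => (χ x)⁻¹) = ψ := by
            funext x
            rw [inv_eq_iff_eq_inv, eq_comm, inv_eq_iff_eq_inv]
            exact eq_inv_of_mul_eq_one_right (hno x)
          rw [h3]
          exact hψ
        have h2 := hinv x v w
        rw [hev χ v hv x, hev ψ w hw x, Matrix.mulVec_smul, dotProduct_smul, smul_dotProduct, smul_smul, smul_eq_mul] at h2
        have h3 : (χ x * ψ x - 1) * (v ⬝ᵥ JK.mulVec w) = 0 := by linear_combination h2
        rcases mul_eq_zero.1 h3 with h4 | h4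
        · exact absurd (sub_eq_zero.1 h4) hx
        · exact h4
    have h2 : ∀ w, v ⬝ᵥ JK.mulVec w = 0 := by
      let φ : (Fin n → K) →ₗ[K] K := { toFun := fun w => v ⬝ᵥ JK.mulVec w, map_add' := fun a b => by rw [Matrix.mulVec_add, dotProduct_add], map_smul' := fun c a => by rw [Matrix.mulVec_smul, dotProduct_smul]; rfl }
      have h3 : (⊤ : Submodule K (Fin n → K)) ≤ LinearMap.ker φ := by
        rw [← htop]
        exact iSup_le fun ψ w hw => LinearMap.mem_ker.2 (h1 ψ w hw)
      intro w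
      exact LinearMap.mem_ker.1 (h3 (Submodule.mem_top (x := w)))
    apply hv0
    have h3 : Matrix.vecMul v JK = 0 := by
      apply dotProduct_eq_zero
      intro w
      rw [← Matrix.dotProduct_mulVec]
      exact h2 w
    have h4 := Matrix.eq_zero_of_vecMul_eq_zero hJKdet h3
    exact h4
  obtain ⟨R, hRΩ, hRc, hR⟩ := exists_half Ω (fun χ x => (χ x)⁻¹) hΩinv (fun χ => by funext x; exact inv_inv _)
  have hRn : R.card ≤ n / 2 := by omega
  -- the map
  let N : Finset K := nthRootsFinset s (1 : K)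
  have hN : N.card ≤ s := by
    have h1 := Polynomial.card_nthRoots s (1 : K)
    refine le_trans ?_ h1
    show (nthRootsFinset s (1 : K)).card ≤ _
    unfold nthRootsFinset
    exact Multiset.toFinset_card_le _
  let f : Y → (R → N) := fun x i => ⟨i.1 x, by
    rw [Polynomial.mem_nthRootsFinset hs.pos]
    exact hpw _ ((hΩ _).1 (hRΩ i.2)) x⟩
  have hf : ∀ x y, f x = f y → x⁻¹ * y ∈ Z := by
    intro x y h
    apply hZ
    have hr : ∀ χ ∈ R, χ (x⁻¹ * y) = 1 := by
      intro χ hχ
      have h1 : χ x = χ y := congrArg Subtype.val (congrFun h ⟨χ, hχ⟩)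
      have hχ' := (hΩ _).1 (hRΩ hχ)
      have h3 := hmul χ hχ' x (x⁻¹ * y)
      rw [mul_inv_cancel_left, ← h1] at h3
      exact mul_left_cancel₀ (hne0 χ hχ' x) (by rw [mul_one]; exact h3.symm)
    have hr' : ∀ χ, W χ ≠ ⊥ → χ (x⁻¹ * y) = 1 := by
      intro χ hχ
      by_cases hfix : (fun z => (χ z)⁻¹) = χ
      · have h1 : χ (x⁻¹ * y) ^ 2 = 1 := by
          have h2 := congrFun hfix (x⁻¹ * y)
          have h3 : (χ (x⁻¹ * y))⁻¹ = χ (x⁻¹ * y) := h2
          rw [sq]
          nth_rewrite 1 [← h3]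
          exact inv_mul_cancel₀ (hne0 χ hχ _)
        have h2 := hpw χ hχ (x⁻¹ * y)
        have h3 : Nat.Coprime 2 s := (Nat.coprime_primes Nat.prime_two hs).2 fun h => hs2 h.symm
        have h4 : orderOf (χ (x⁻¹ * y)) ∣ Nat.gcd 2 s := Nat.dvd_gcd (orderOf_dvd_of_pow_eq_one h1)
          (orderOf_dvd_of_pow_eq_one h2)
        rw [h3, Nat.dvd_one, orderOf_eq_one_iff] at h4
        exact h4
      · rcases hR χ ((hΩ χ).2 hχ) hfix with h1 | h1
        · exact hr χ h1
        · have h2 := hr _ h1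
          exact inv_eq_one.1 h2
    apply Units.ext
    have h1 : (⊤ : Submodule K (Fin n → K)) ≤ LinearMap.eqLocus (T (x⁻¹ * y)) 1 := by
      rw [← htop]
      refine iSup_le fun χ v hv => ?_
      by_cases hχ : W χ = ⊥
      · rw [hχ, Submodule.mem_bot] at hv
        rw [hv]
        exact Submodule.zero_mem _
      · show T (x⁻¹ * y) v = (1 : Module.End K (Fin n → K)) v
        rw [hev χ v hv, hr' χ hχ, one_smul]
        rfl
    have h2 : Tm F n (ρ (x⁻¹ * y) : Matrix (Fin n) (Fin n) F) = Tm F n 1 := by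
      rw [map_one]
      exact LinearMap.ext fun v => h1 (Submodule.mem_top)
    have h3 : (ρ (x⁻¹ * y) : Matrix (Fin n) (Fin n) F).map (algebraMap F K) = (1 : Matrix (Fin n) (Fin n) F).map (algebraMap F K) :=
      Matrix.toLinAlgEquiv'.injective h2
    exact Matrix.map_injective (algebraMap F K).injective h3
  have hinj : Function.Injective (fun q : Y ⧸ Z => f q.out) := by
    intro q q' h
    have h1 := hf _ _ h
    rw [← QuotientGroup.eq] at h1
    rwa [QuotientGroup.out_eq', QuotientGroup.out_eq'] at h1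
  have hfq : Finite (Y ⧸ Z) := Finite.of_injective _ hinj
  refine ⟨Subgroup.index_ne_zero_of_finite, ?_⟩
  calc Z.index = Nat.card (Y ⧸ Z) := rfl
    _ ≤ Nat.card (R → N) := Nat.card_le_card_of_injective _ hinj
    _ = N.card ^ R.card := by
      rw [Nat.card_eq_fintype_card, Fintype.card_fun, Fintype.card_coe, Fintype.card_coe]
    _ ≤ s ^ R.card := Nat.pow_le_pow_left hN _
    _ ≤ s ^ (n / 2) := Nat.pow_le_pow_right hs.pos hRn

end Cfsg.Agent.H752.EP
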