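import Cfsg.Agent.H752.EP.TIPars
import Cfsg.Agent.H752.EP.SRank

/-!
# Counting two-point stabilisers, own characteristic, bounded rank (helper752)

Variants of helper12's `ncard_np_le`, `EPT.ncard_own`, `EPT.index_own` (`H12/EP/{GenJ,BT}.lean`):
the hypothesis `|A| < 60 ^ 60 ^ j` is replaced by `MLe j A` (`T^m ≤ A` implies `m ≤ 60 ^ j`), which follows from a bound
for the `s`-ranks, and the `p`-subgroups of `A` outside the socle are cyclic.
-/

set_option autoImplicit false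
set_option linter.unusedSectionVars false

namespace Cfsg.Agent.H752.EP

open Subgroup Cfsg.Agent.H284 Cfsg.Agent.H59.EP Cfsg.Agent.H528.EP Cfsg.Agent.H12.EP.BT Cfsg.Agent.H419.EP

universe u

/-- the number of factors of a characteristically simple nonabelian subgroup -/
def MLe (j : ℕ) (B : Type u) [Group B] : Prop :=
  ∀ (X : Subgroup B) (T : Type u) [Group T] [Finite T] (m : ℕ), IsSimpleGroup T → ¬ Group.IsSolvable T →
    Nonempty (X ≃* (Fin m → T)) → m ≤ 60 ^ j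

theorem mLe_of_srank {B : Type u} [Group B] {k j : ℕ} (h : ∀ s : ℕ, s.Prime → 5 ≤ s → SRank B s k) (hk : k ≤ 60 ^ j) :
    MLe j B := by
  intro X T _ _ m hT hTs ⟨e⟩
  obtain ⟨s, hs, hs5, hsd⟩ := exists_prime_ge_five hTs
  have : Fact s.Prime := ⟨hs⟩
  obtain ⟨t, ht⟩ := exists_prime_orderOf_dvd_card' s hsd
  let D : Subgroup (Fin m → T) := Subgroup.pi Set.univ fun _ => zpowers t
  have hD : ∀ f : Fin m → T, f ∈ D ↔ ∀ i, f i ∈ zpowers t := fun f => by
    rw [Subgroup.mem_pi]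
    exact ⟨fun h i => h i trivial, fun h i _ => h i⟩
  let g : (Fin m → T) →* B := X.subtype.comp e.symm.toMonoidHom
  have hg : Function.Injective g := X.subtype_injective.comp e.symm.injective
  have hts : t ^ s = 1 := by rw [← ht, pow_orderOf_eq_one]
  have h1 := h s hs hs5 (D.map g) (by
    rintro _ ⟨x, hx, rfl⟩ _ ⟨y, hy, rfl⟩
    rw [← map_mul, ← map_mul]
    congr 1
    funext i
    obtain ⟨a, ha⟩ := mem_zpowers_iff.1 ((hD x).1 hx i)
    obtain ⟨b, hb⟩ := mem_zpowers_iff.1 ((hD y).1 hy i)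
    rw [Pi.mul_apply, Pi.mul_apply, ← ha, ← hb, ← zpow_add, ← zpow_add, add_comm]) (by
    rintro _ ⟨x, hx, rfl⟩
    rw [← map_pow]
    have h2 : x ^ s = 1 := by
      funext i
      obtain ⟨a, ha⟩ := mem_zpowers_iff.1 ((hD x).1 hx i)
      rw [Pi.pow_apply, Pi.one_apply, ← ha, ← zpow_natCast, ← zpow_mul, mul_comm, zpow_mul, zpow_natCast, hts, one_zpow]
    rw [h2, map_one])
  have h2 : Nat.card (D.map g) = s ^ m := by
    have h3 : Nat.card D = s ^ m := by
      let E : D ≃ (Fin m → zpowers t) :=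
        { toFun := fun f i => ⟨f.1 i, (hD f.1).1 f.2 i⟩
          invFun := fun f => ⟨fun i => f i, (hD _).2 fun i => (f i).2⟩
          left_inv := fun f => rfl
          right_inv := fun f => rfl }
      rw [Nat.card_congr E, Nat.card_fun, Nat.card_zpowers, ht, Nat.card_eq_fintype_card, Fintype.card_fin]
    rw [← h3]
    exact (Nat.card_congr (D.equivMapOfInjective g hg).toEquiv).symm
  rw [h2] at h1
  exact ((Nat.pow_le_pow_iff_right hs.one_lt).1 h1.2).trans hk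

/-- **Characteristically simple groups** of order less than `60 ^ 60 ^ j`: elementary abelian, simple, or
`2 + j`-generated with trivial centre and of order at least 3600. -/
theorem char_simple_m {X : Type u} [Group X] [Finite X] [Nontrivial X] (hg : TwoGen.{u})
    (hc : ∀ Y : Subgroup X, Y.Characteristic → Y = ⊥ ∨ Y = ⊤) {j : ℕ}
    (hX : ∀ (T : Type u) [Group T] [Finite T] (m : ℕ), IsSimpleGroup T → ¬ Group.IsSolvable T →
      Nonempty (X ≃* (Fin m → T)) → m ≤ 60 ^ j) :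
    (∃ s : ℕ, s.Prime ∧ s ∣ Nat.card X ∧ ElAb s (⊤ : Subgroup X)) ∨ (IsSimpleGroup X ∧ ¬ Group.IsSolvable X) ∨
      ((∃ s : ℕ, s.Prime ∧ 5 ≤ s ∧ s ^ 2 ∣ Nat.card X) ∧ 3600 ≤ Nat.card X ∧ center X = ⊥ ∧
        ∃ f : Fin (2 + j) → X, closure (Set.range f) = ⊤) := by
  by_cases hcomm : ∀ a b : X, a * b = b * a
  · left
    obtain ⟨s, hs, hsd⟩ := Nat.exists_prime_and_dvd (n := Nat.card X) (by
      have := Finite.one_lt_card (α := X)
      omega)
    have : Fact s.Prime := ⟨hs⟩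
    obtain ⟨x, hx⟩ := exists_prime_orderOf_dvd_card' s hsd
    let Y : Subgroup X :=
      { carrier := {y | y ^ s = 1}
        one_mem' := one_pow s
        mul_mem' := fun {a b} ha hb => by
          show (a * b) ^ s = 1
          rw [(show Commute a b from hcomm a b).mul_pow, show a ^ s = 1 from ha, show b ^ s = 1 from hb, one_mul]
        inv_mem' := fun {a} ha => by
          show a⁻¹ ^ s = 1
          rw [inv_pow, show a ^ s = 1 from ha, inv_one] }
    have hY : Y.Characteristic := by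
      rw [characteristic_iff_map_le]
      rintro φ _ ⟨y, hy, rfl⟩
      show (φ y) ^ s = 1
      rw [← map_pow, show y ^ s = 1 from hy, map_one]
    refine ⟨s, hs, hsd, fun a _ b _ => hcomm a b, ?_⟩
    rcases hc Y hY with h | h
    · exfalso
      have h1 : x ∈ Y := by
        show x ^ s = 1
        rw [← hx, pow_orderOf_eq_one]
      rw [h, mem_bot] at h1
      rw [h1, orderOf_one] at hx
      exact hs.one_lt.ne hx
    · intro a _
      have h1 : a ∈ Y := by rw [h]; exact mem_top _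
      exact h1
  · right
    obtain ⟨T, _, m, hTf, hT, hm0, ⟨e⟩⟩ := exists_pi hc
    have hTc : ¬ ∀ a b : T, a * b = b * a := by
      intro h
      apply hcomm
      intro a b
      apply e.injective
      rw [map_mul, map_mul]
      funext i
      exact h _ _
    have hTs : ¬ Group.IsSolvable T := by
      intro hs
      apply hTc
      intro a b
      exact IsSimpleGroup.comm_iff_isSolvable.2 hs a b
    have h60 : 60 ≤ Nat.card T := Cfsg.Agent.H168.NoSolv.sixty_le hTs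
    have hcard : Nat.card X = Nat.card T ^ m := by
      rw [Nat.card_congr e.toEquiv, Nat.card_fun, Nat.card_eq_fintype_card (α := Fin m), Fintype.card_fin]
    rcases Nat.lt_or_ge m 2 with hm2 | hm2
    · left
      have hm1 : m = 1 := by omega
      subst hm1
      have e1 : X ≃* T := e.trans (MulEquiv.piUnique fun _ : Fin 1 => T)
      refine ⟨e1.isSimpleGroup, fun h => hTs ?_⟩
      exact Group.isSolvable_of_isSolvable_injective (f := e1.symm.toMonoidHom) e1.symm.injective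
    right
    have hm : m ≤ Nat.card T ^ j := (hX T m hT hTs ⟨e⟩).trans (Nat.pow_le_pow_left h60 j)
    obtain ⟨a, b, hab⟩ := hg T
    obtain ⟨f, hf⟩ := exists_gen_pi hTc hab hm
    refine ⟨?_, ?_, ?_, _, closure_range_of_equiv e hf⟩
    · obtain ⟨s, hs, hs5, hsd⟩ := exists_prime_ge_five hTs
      refine ⟨s, hs, hs5, ?_⟩
      rw [hcard]
      exact (pow_dvd_pow_of_dvd hsd 2).trans (pow_dvd_pow _ hm2)
    · rw [hcard]
      calc 3600 = 60 ^ 2 := by norm_num
        _ ≤ Nat.card T ^ 2 := Nat.pow_le_pow_left h60 2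
        _ ≤ Nat.card T ^ m := Nat.pow_le_pow_right (by omega) hm2
    · rcases hc (center X) inferInstance with h1 | h1
      · exact h1
      · exfalso
        apply hcomm
        intro a b
        have h2 : b ∈ center X := by rw [h1]; exact mem_top _
        exact mem_center_iff.1 h2 a

section count

variable {B : Type u} [Group B] [Finite B]

/-- **Counting theorem**, the prime `p` excluded. -/
theorem ncard_np_le_m (hg : TwoGen.{u}) {j : ℕ} (hB : MLe j B) {p C : ℕ} (hC : ClsLe p C B) {E : ℕ}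
    (hE : (∃ s : ℕ, s.Prime ∧ 5 ≤ s ∧ s ^ 2 ∣ Nat.card B) → Nat.card B ^ (2 + j) / 3600 ≤ E)
    {𝓜 : Set (Subgroup B)} {c : ℕ} (hc : ∀ M ∈ 𝓜, M.index ≤ c) (hnt : ∀ M ∈ 𝓜, M ≠ ⊥)
    (hch : ∀ M ∈ 𝓜, ∀ K : Subgroup M, K.Characteristic → K ≠ ⊥ → ∀ b : B,
      (∀ k ∈ K.map M.subtype, b * k * b⁻¹ ∈ K.map M.subtype) → b ∈ M)
    (hnp : ∀ M ∈ 𝓜, ∀ K : Subgroup M, K.Characteristic → K ≠ ⊥ → ¬ ElAb p K) :
    𝓜.ncard ≤ C * c + Nat.card B ^ 2 / 60 + E := by
  classical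
  -- the minimal characteristic subgroup
  have key : ∀ M ∈ 𝓜, ∃ X : Subgroup B, normalizer (X : Set B) = M ∧
      ((∃ s : ℕ, s.Prime ∧ s ≠ p ∧ ElAb s X ∧ X ≠ ⊥) ∨
        ((IsSimpleGroup X ∧ ¬ Group.IsSolvable X) ∧ ∃ a b : X, closure ({a, b} : Set X) = ⊤) ∨
        ((∃ s : ℕ, s.Prime ∧ 5 ≤ s ∧ s ^ 2 ∣ Nat.card B) ∧ 3600 ≤ Nat.card X ∧ center X = ⊥ ∧
          ∃ f : Fin (2 + j) → X, closure (Set.range f) = ⊤)) := by
    intro M hM
    have hMn : Nontrivial M := (Subgroup.nontrivial_iff_ne_bot M).2 (hnt M hM)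
    obtain ⟨Y, hY, hYne, hYmin⟩ := exists_min_char (B := M)
    have hYn : Nontrivial Y := (Subgroup.nontrivial_iff_ne_bot Y).2 hYne
    have hYc : ∀ Z : Subgroup Y, Z.Characteristic → Z = ⊥ ∨ Z = ⊤ := by
      intro Z hZ
      by_cases hZb : Z = ⊥
      · exact Or.inl hZb
      right
      have h1 := hYmin (Z.map Y.subtype) char_trans (by
        rintro _ ⟨z, _, rfl⟩
        exact z.2) (by
        intro e
        rw [Subgroup.map_eq_bot_iff_of_injective _ Y.subtype_injective] at e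
        exact hZb e)
      rw [Subgroup.eq_top_iff']
      intro y
      have h2 : (y : M) ∈ Z.map Y.subtype := by rw [h1]; exact y.2
      obtain ⟨z, hz, e⟩ := h2
      have : z = y := Subtype.ext e
      rw [← this]
      exact hz
    set X : Subgroup B := Y.map M.subtype with hX
    have hcard : Nat.card X = Nat.card Y :=
      (Nat.card_congr (Y.equivMapOfInjective _ M.subtype_injective).toEquiv).symm
    have e : Y ≃* X := Y.equivMapOfInjective _ M.subtype_injective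
    have hXB : Nat.card Y ∣ Nat.card B := by
      rw [← hcard]
      exact Subgroup.card_subgroup_dvd_card X
    have hXne : X ≠ ⊥ := by
      intro e
      rw [hX, Subgroup.map_eq_bot_iff_of_injective _ M.subtype_injective] at e
      exact hYne e
    refine ⟨X, ?_, ?_⟩
    · apply le_antisymm
      · intro b hb
        exact hch M hM Y hY hYne b fun k hk => (mem_normalizer_iff.1 hb k).1 hk
      · intro m hm
        have hn : Y.Normal := inferInstance
        rw [mem_normalizer_iff]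
        have key : ∀ m ∈ M, ∀ k ∈ X, m * k * m⁻¹ ∈ X := by
          rintro m hm _ ⟨k, hk, rfl⟩
          exact ⟨_, hn.conj_mem k hk ⟨m, hm⟩, rfl⟩
        intro k
        refine ⟨key m hm k, fun h => ?_⟩
        have := key m⁻¹ (M.inv_mem hm) _ h
        have e : m⁻¹ * (m * k * m⁻¹) * m⁻¹⁻¹ = k := by group
        rwa [e] at this
    · rcases char_simple_m hg hYc (fun T _ _ m hT hTs ⟨e'⟩ => hB X T m hT hTs ⟨e.symm.trans e'⟩) with ⟨s, hs, hsd, hel⟩ | ⟨h1, h2⟩ | ⟨⟨s, hs, hs5, hsd⟩, h1, h2, f, h3⟩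
      · left
        have hsp : s ≠ p := by
          rintro rfl
          refine hnp M hM Y hY hYne ⟨fun a ha b hb => ?_, fun a ha => ?_⟩
          · exact Subtype.ext_iff.1 (hel.comm ⟨a, ha⟩ (mem_top _) ⟨b, hb⟩ (mem_top _))
          · exact Subtype.ext_iff.1 (hel.exp ⟨a, ha⟩ (mem_top _))
        refine ⟨s, hs, hsp, ⟨?_, ?_⟩, hXne⟩
        · rintro _ ⟨a, ha, rfl⟩ _ ⟨b, hb, rfl⟩
          have := hel.comm ⟨a, ha⟩ (mem_top _) ⟨b, hb⟩ (mem_top _)
          have h1 : a * b = b * a := Subtype.ext_iff.1 this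
          rw [← map_mul, ← map_mul, h1]
        · rintro _ ⟨a, ha, rfl⟩
          have := hel.exp ⟨a, ha⟩ (mem_top _)
          have h1 : a ^ s = 1 := Subtype.ext_iff.1 this
          rw [← map_pow, h1, map_one]
      · right; left
        have hXs : IsSimpleGroup X := e.symm.isSimpleGroup
        refine ⟨⟨hXs, fun h => h2 ?_⟩, hg X⟩
        exact Group.isSolvable_of_isSolvable_injective (f := e.toMonoidHom) e.injective
      · right; right
        refine ⟨⟨s, hs, hs5, hsd.trans hXB⟩, by rw [hcard]; exact h1, ?_, _, closure_range_of_equiv e.symm h3⟩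
        rw [Subgroup.eq_bot_iff_forall]
        intro x hx
        have h4 : e.symm x ∈ center Y := by
          rw [mem_center_iff] at hx ⊢
          intro y
          apply e.injective
          rw [map_mul, map_mul, MulEquiv.apply_symm_apply]
          exact hx _
        rw [h2, mem_bot] at h4
        exact (MulEquiv.map_eq_one_iff e.symm).1 h4
  choose! f hf1 hf2 using key
  have hinj : Set.InjOn f 𝓜 := by
    intro M hM N hN e
    rw [← hf1 M hM, ← hf1 N hN, e]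
  rw [← hinj.ncard_image]
  have hsub : f '' 𝓜 ⊆ ({X : Subgroup B | (∃ s : ℕ, s.Prime ∧ s ≠ p ∧ ElAb s X ∧ X ≠ ⊥) ∧
      (normalizer (X : Set B)).index ≤ c} ∪
      {X : Subgroup B | (IsSimpleGroup X ∧ ¬ Group.IsSolvable X) ∧ ∃ a b : X, closure ({a, b} : Set X) = ⊤}) ∪
      {X : Subgroup B | (∃ s : ℕ, s.Prime ∧ 5 ≤ s ∧ s ^ 2 ∣ Nat.card B) ∧ 3600 ≤ Nat.card X ∧ center X = ⊥ ∧
        ∃ f : Fin (2 + j) → X, closure (Set.range f) = ⊤} := by
    rintro _ ⟨M, hM, rfl⟩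
    rcases hf2 M hM with h1 | h | h
    · left; left
      exact ⟨h1, by rw [hf1 M hM]; exact hc M hM⟩
    · left; right
      exact h
    · right
      exact h
  refine (Set.ncard_le_ncard hsub (Set.toFinite _)).trans ((Set.ncard_union_le _ _).trans (Nat.add_le_add
    ((Set.ncard_union_le _ _).trans (Nat.add_le_add ?_ ?_)) ?_))
  · obtain ⟨𝓔, h1, h2⟩ := hC
    refine (ncard_le_mul (𝓔 := 𝓔) ?_ (fun X hX => hX.2)).trans (Nat.mul_le_mul_right _ h1)
    rintro X ⟨⟨s, hs, hsp, hel, hne⟩, -⟩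
    exact h2 X s hs hsp hel hne
  · exact ncard_simple_le (fun X hX => hX.1) (fun X hX => hX.2)
  · by_cases h5 : ∃ s : ℕ, s.Prime ∧ 5 ≤ s ∧ s ^ 2 ∣ Nat.card B
    · exact (ncard_dgen_le (by norm_num) (fun X hX => hX.2)).trans (hE h5)
    · have h0 : {X : Subgroup B | (∃ s : ℕ, s.Prime ∧ 5 ≤ s ∧ s ^ 2 ∣ Nat.card B) ∧ 3600 ≤ Nat.card X ∧
          center X = ⊥ ∧ ∃ f : Fin (2 + j) → X, closure (Set.range f) = ⊤} = ∅ := by
        rw [Set.eq_empty_iff_forall_notMem]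
        intro X hX
        exact h5 hX.1
      rw [h0, Set.ncard_empty]
      exact Nat.zero_le _

end count

/-- the number of elementary abelian subgroups from the rank -/
theorem clsLe_rank {B : Type u} [Group B] [Finite B] {p k : ℕ} (h : ∀ s : ℕ, s.Prime → s ≠ p → SRank B s k) :
    ClsLe p (Nat.card B ^ k) B := by
  classical
  refine ⟨Set.range fun f : Fin k → B => closure (Set.range f), ?_, ?_⟩
  · rw [← Set.image_univ]
    refine (Set.ncard_image_le (Set.toFinite _)).trans ?_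
    rw [Set.ncard_univ, Nat.card_fun, Nat.card_eq_fintype_card (α := Fin k), Fintype.card_fin]
  · intro X s hs hsp hel _
    have : Fact s.Prime := ⟨hs⟩
    have h1 := h s hs hsp X (fun x hx y hy => hel.comm x hx y hy) (fun x hx => hel.exp x hx)
    have h2 : IsPGroup s X := by
      rintro ⟨y, hy⟩
      refine ⟨1, Subtype.ext ?_⟩
      rw [pow_one]
      exact hel.exp y hy
    obtain ⟨f, hf⟩ := exists_gen_pgroup h2 h1.2
    refine ⟨X, ⟨fun i => (f i : B), ?_⟩, 1, ?_⟩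
    · have h3 := congrArg (Subgroup.map X.subtype) hf
      rw [MonoidHom.map_closure, ← Set.range_comp, ← MonoidHom.range_eq_map, X.range_subtype] at h3
      exact h3
    · rw [map_one]
      ext y
      constructor
      · intro hy
        exact ⟨y, hy, rfl⟩
      · rintro ⟨z, hz, rfl⟩
        exact hz

section own

variable {Q : Type u} [Group Q] [Finite Q] {A N : Subgroup Q} {Γ : Subgroup (MulAut Q)} {p : ℕ}

/-- the number of `M0` with an invariant `p`-subgroup outside the socle -/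
theorem ncard_out_cyc (hS : LieSoc p A N) (h : EPT A Γ)
    (hout : ∀ R : Subgroup Q, R ≤ A → IsPGroup p R → R ⊓ N = ⊥ → ∃ x ∈ R, R = zpowers x) :
    {M : Subgroup Q | ∃ x, x ∉ A ∧ M = A ⊓ cj x A ∧ ∃ R : Subgroup Q, R ≤ A ⊓ cj x A ∧
      (∀ σ ∈ Γ, x⁻¹ * σ x ∈ A → ∀ k ∈ R, σ k ∈ R) ∧ IsPGroup p R ∧ R ≠ ⊥ ∧ R ⊓ N = ⊥}.ncard ≤ Nat.card A := by
  classical
  set 𝓜 := {M : Subgroup Q | ∃ x, x ∉ A ∧ M = A ⊓ cj x A ∧ ∃ R : Subgroup Q, R ≤ A ⊓ cj x A ∧
      (∀ σ ∈ Γ, x⁻¹ * σ x ∈ A → ∀ k ∈ R, σ k ∈ R) ∧ IsPGroup p R ∧ R ≠ ⊥ ∧ R ⊓ N = ⊥} with h𝓜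
  have key : ∀ M ∈ 𝓜, ∃ y : A, ∀ b : Q, b ∈ M ↔ b ∈ A ∧ ∀ k ∈ zpowers (y : Q), b * k * b⁻¹ ∈ zpowers (y : Q) := by
    rintro _ ⟨x, hx, rfl, R, hR, hRn, hRp, hR1, hRN⟩
    have hRA : R ≤ A := hR.trans inf_le_left
    obtain ⟨y, hyR, hy⟩ := hout R hRA hRp hRN
    refine ⟨⟨y, hRA hyR⟩, fun b => ?_⟩
    show b ∈ A ⊓ cj x A ↔ b ∈ A ∧ ∀ k ∈ zpowers y, b * k * b⁻¹ ∈ zpowers y
    rw [← hy]
    constructor
    · intro hb
      exact ⟨(mem_inf.1 hb).1, fun k hk => hRn _ ((h.conj b).2 (mem_inf.1 hb).1)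
        ((h.conj_stab (mem_inf.1 hb).1).2 (mem_inf.1 hb).2) k hk⟩
    · rintro ⟨hbA, hb⟩
      refine ⟨hbA, ?_⟩
      show b ∈ cj x A
      rw [← h.conj_stab hbA]
      exact h.norm x hx R hR hRn hR1 _ ((h.conj _).2 hbA) hb
  choose! f hf using key
  have hinj : Set.InjOn f 𝓜 := by
    intro M hM M' hM' e
    ext b
    rw [hf M hM, hf M' hM', e]
  rw [← hinj.ncard_image]
  refine (Set.ncard_le_ncard (Set.subset_univ _) (Set.toFinite _)).trans ?_
  rw [Set.ncard_univ]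

/-- **the number of two-point stabilisers, own characteristic** -/
theorem EPT.ncard_own_m [Fact p.Prime] (h : EPT A Γ) (hg : TwoGen.{u}) (hS : LieSoc p A N) {j : ℕ}
    (hout : ∀ R : Subgroup Q, R ≤ A → IsPGroup p R → R ⊓ N = ⊥ → ∃ x ∈ R, R = zpowers x) (hj : MLe j A) {C : ℕ}
    (hC : ClsLe p C A) {E : ℕ} (hE : (∃ s : ℕ, s.Prime ∧ 5 ≤ s ∧ s ^ 2 ∣ Nat.card A) → Nat.card A ^ (2 + j) / 3600 ≤ E) :
    {M : Subgroup Q | ∃ x, x ∉ A ∧ M = A ⊓ cj x A}.ncard ≤
      Nat.card A + Nat.card A + (C * (Nat.card A / 6) + Nat.card A ^ 2 / 60 + E) := by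
  classical
  set 𝓟 := {M : Subgroup Q | ∃ x, x ∉ A ∧ M = A ⊓ cj x A ∧ ∃ R : Subgroup Q, R ≤ A ⊓ cj x A ∧
      (∀ σ ∈ Γ, x⁻¹ * σ x ∈ A → ∀ k ∈ R, σ k ∈ R) ∧ IsPGroup p R ∧ R ⊓ N ≠ ⊥} with h𝓟
  set 𝓞 := {M : Subgroup Q | ∃ x, x ∉ A ∧ M = A ⊓ cj x A ∧ ∃ R : Subgroup Q, R ≤ A ⊓ cj x A ∧
      (∀ σ ∈ Γ, x⁻¹ * σ x ∈ A → ∀ k ∈ R, σ k ∈ R) ∧ IsPGroup p R ∧ R ≠ ⊥ ∧ R ⊓ N = ⊥} with h𝓞
  set 𝓡 := {M : Subgroup Q | ∃ x, x ∉ A ∧ M = A ⊓ cj x A ∧ ∀ R : Subgroup Q, R ≤ A ⊓ cj x A →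
      (∀ σ ∈ Γ, x⁻¹ * σ x ∈ A → ∀ k ∈ R, σ k ∈ R) → IsPGroup p R → R = ⊥} with h𝓡
  have hcov : {M : Subgroup Q | ∃ x, x ∉ A ∧ M = A ⊓ cj x A} ⊆ 𝓟 ∪ 𝓞 ∪ 𝓡 := by
    rintro _ ⟨x, hx, rfl⟩
    by_cases h1 : ∀ R : Subgroup Q, R ≤ A ⊓ cj x A → (∀ σ ∈ Γ, x⁻¹ * σ x ∈ A → ∀ k ∈ R, σ k ∈ R) → IsPGroup p R →
        R = ⊥
    · exact Or.inr ⟨x, hx, rfl, h1⟩
    · push Not at h1
      obtain ⟨R, hR, hRn, hRp, hR1⟩ := h1
      by_cases hRN : R ⊓ N = ⊥
      · exact Or.inl (Or.inr ⟨x, hx, rfl, R, hR, hRn, hRp, hR1, hRN⟩)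
      · exact Or.inl (Or.inl ⟨x, hx, rfl, R, hR, hRn, hRp, hRN⟩)
  refine (Set.ncard_le_ncard hcov (Set.toFinite _)).trans ((Set.ncard_union_le _ _).trans (Nat.add_le_add
    ((Set.ncard_union_le _ _).trans (Nat.add_le_add (hS.ncard_par h) (ncard_out_cyc hS h hout))) ?_))
  -- no invariant `p`-subgroups
  set 𝓜 : Set (Subgroup A) := {M | ∃ x, x ∉ A ∧ A ⊓ cj x A ∈ 𝓡 ∧ M = (A ⊓ cj x A).subgroupOf A} with h𝓜
  have h1 : 𝓡.ncard ≤ 𝓜.ncard := by
    refine Set.ncard_le_ncard_of_injOn (fun M => M.subgroupOf A) ?_ ?_ (Set.toFinite _)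
    · rintro _ ⟨x, hx, rfl, h2⟩
      exact ⟨x, hx, ⟨x, hx, rfl, h2⟩, rfl⟩
    · rintro _ ⟨x, _, rfl, _⟩ _ ⟨y, _, rfl, _⟩ e
      have e1 := congrArg (Subgroup.map A.subtype) e
      simp only [Subgroup.subgroupOf_map_subtype] at e1
      rw [inf_eq_left.2 (inf_le_left : A ⊓ cj x A ≤ A), inf_eq_left.2 (inf_le_left : A ⊓ cj y A ≤ A)] at e1
      exact e1
  refine h1.trans (ncard_np_le_m hg hj hC hE ?_ ?_ ?_ ?_)
  · rintro _ ⟨x, hx, -, rfl⟩
    have hc : Nat.card ((A ⊓ cj x A).subgroupOf A) = Nat.card (A ⊓ cj x A : Subgroup Q) :=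
      Nat.card_congr (Subgroup.subgroupOfEquivOfLe inf_le_left).toEquiv
    have hmul := ((A ⊓ cj x A).subgroupOf A).card_mul_index
    rw [hc] at hmul
    rw [Nat.le_div_iff_mul_le (by norm_num), ← hmul, mul_comm]
    exact Nat.mul_le_mul_right _ (EPT.six_le h hS.no_abelian hx)
  · rintro _ ⟨x, hx, -, rfl⟩ e
    apply h.M0 x hx
    rw [Subgroup.subgroupOf_eq_bot] at e
    exact e.eq_bot_of_le inf_le_left
  · rintro _ ⟨x, hx, -, rfl⟩ K hK hne b hb
    set E : (A ⊓ cj x A).subgroupOf A ≃* (A ⊓ cj x A : Subgroup Q) :=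
      Subgroup.subgroupOfEquivOfLe (inf_le_left : A ⊓ cj x A ≤ A) with hE
    have hch := char_map E hK
    have hn := h.norm_char hx (K.map E.toMonoidHom) (hK := hch) (by
      intro e
      rw [Subgroup.map_eq_bot_iff_of_injective _ E.injective] at e
      exact hne e) (a := (b : Q)) b.2 (by
      rintro _ ⟨_, ⟨k, hk, rfl⟩, rfl⟩
      obtain ⟨k', hk', e'⟩ := hb _ ⟨k, hk, rfl⟩
      refine ⟨_, ⟨k', hk', rfl⟩, ?_⟩
      have e2 := congrArg (Subtype.val) e'
      exact e2)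
    exact ⟨b.2, hn⟩
  · rintro _ ⟨x, hx, ⟨x', hx', exx', h𝓡x⟩, rfl⟩ K hK hne hel
    -- the image of `K` is invariant
    set R : Subgroup Q := (K.map ((A ⊓ cj x A).subgroupOf A).subtype).map A.subtype with hRdef
    have hRmem : ∀ y, y ∈ R ↔ ∃ k ∈ K, ((k : A) : Q) = y := by
      intro y
      constructor
      · rintro ⟨_, ⟨k, hk, rfl⟩, rfl⟩
        exact ⟨k, hk, rfl⟩
      · rintro ⟨k, hk, rfl⟩
        exact ⟨_, ⟨k, hk, rfl⟩, rfl⟩
    have hRM : R ≤ A ⊓ cj x A := by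
      intro y hy
      obtain ⟨k, _, rfl⟩ := (hRmem y).1 hy
      exact k.2
    have hRx : ∀ σ : MulAut Q, (∀ y ∈ A ⊓ cj x A, σ y ∈ A ⊓ cj x A) → ∀ k ∈ R, σ k ∈ R := by
      intro σ hσ
      have hA : ∀ y : (A ⊓ cj x A).subgroupOf A, σ ((y : A) : Q) ∈ A ⊓ cj x A := fun y => hσ _ y.2
      let f : (A ⊓ cj x A).subgroupOf A →* (A ⊓ cj x A).subgroupOf A :=
        { toFun := fun y => ⟨⟨σ ((y : A) : Q), (mem_inf.1 (hA y)).1⟩, hA y⟩
          map_one' := by
            apply Subtype.ext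
            apply Subtype.ext
            exact map_one σ
          map_mul' := fun y z => by
            apply Subtype.ext
            apply Subtype.ext
            exact map_mul σ _ _ }
      have hf : Function.Injective f := by
        intro y z e
        have e' : σ ((y : A) : Q) = σ ((z : A) : Q) := Subtype.ext_iff.1 (Subtype.ext_iff.1 e)
        exact Subtype.ext (Subtype.ext (σ.injective e'))
      let τ : MulAut ((A ⊓ cj x A).subgroupOf A) := MulEquiv.ofBijective f (Finite.injective_iff_bijective.1 hf)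
      have hτ : K.map τ.toMonoidHom = K := Subgroup.characteristic_iff_map_eq.1 hK τ
      intro y hy
      obtain ⟨k, hk, rfl⟩ := (hRmem y).1 hy
      have h2 : τ k ∈ K := by
        rw [← hτ]
        exact ⟨k, hk, rfl⟩
      exact (hRmem _).2 ⟨τ k, h2, rfl⟩
    have hRp : IsPGroup p R := by
      rintro ⟨y, hy⟩
      obtain ⟨k, hk, rfl⟩ := (hRmem y).1 hy
      refine ⟨1, Subtype.ext ?_⟩
      rw [pow_one]
      have h3 := hel.exp k hk
      have h4 : ((k : A) : Q) ^ p = 1 := by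
        have := congrArg (fun z : (A ⊓ cj x A).subgroupOf A => ((z : A) : Q)) h3
        simpa using this
      exact h4
    have h2 := h𝓡x R (exx' ▸ hRM) (fun σ hσ hσx => hRx σ fun y hy => by
      rw [exx'] at hy ⊢
      exact h.stab_M0 hσ hσx hy) hRp
    apply hne
    rw [Subgroup.eq_bot_iff_forall]
    intro k hk
    have h3 : ((k : A) : Q) ∈ R := (hRmem _).2 ⟨k, hk, rfl⟩
    rw [h2, mem_bot] at h3
    exact Subtype.ext (Subtype.ext h3)

/-- **the bound for the index, own characteristic** -/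
theorem EPT.index_own_m [Fact p.Prime] (hs : IsSimpleGroup Q) (h : EPT A Γ) (hg : TwoGen.{u}) (hS : LieSoc p A N)
    {j : ℕ} (hout : ∀ R : Subgroup Q, R ≤ A → IsPGroup p R → R ⊓ N = ⊥ → ∃ x ∈ R, R = zpowers x) (hj : MLe j A)
    {C : ℕ} (hC : ClsLe p C A) {E : ℕ}
    (hE : (∃ s : ℕ, s.Prime ∧ 5 ≤ s ∧ s ^ 2 ∣ Nat.card A) → Nat.card A ^ (2 + j) / 3600 ≤ E) :
    A.index ≤ 1 + (Nat.card A + Nat.card A + (C * (Nat.card A / 6) + Nat.card A ^ 2 / 60 + E)) *
      (2 * (Nat.card A / 6)) :=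
  index_le_of (EPT.ncard_own_m h hg hS hout hj hC hE)
    (Cfsg.Agent.H173.EP.ub1 hs h (by norm_num) fun _ hx => EPT.six_le h hS.no_abelian hx) le_rfl

end own

end Cfsg.Agent.H752.EP
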