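import Cfsg.Agent.H752.EP.RkAut
import Cfsg.Agent.H270.EP.Ree
import Cfsg.Agent.H28.T5RankOne
import Cfsg.Agent.H240.GenTwF.Tools

/-!
# S3499, dimension at least 13: Ree groups in their own characteristic (helper752)

`card_le_ree`: `|Q| ≤ |A|^6`; `own_ree` : Ree groups do not occur.
-/

set_option autoImplicit false
set_option linter.unusedSectionVars false

namespace Cfsg.Agent.H752.EP

open Cfsg Matrix Subgroup Cfsg.Agent.H284 Cfsg.Agent.H59.EP Cfsg.Agent.H12.EP.BT Cfsg.Agent.H419.EP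
open Cfsg.Geo Cfsg.Agent.H915.LD

universe u

/-- **The order bound**, any exponent -/
theorem le_of_big' {Q : Type} [Group Q] [Finite Q] {A : Subgroup Q} {Γ : Subgroup (MulAut Q)} {ι : Type} [Fintype ι]
    [DecidableEq ι] {F : Type} [Field F] [Fintype F] {S P : Subgroup (GL ι F)} (b : Big A Γ S P) {c : ℕ}
    (hUB : Nat.card Q ≤ Nat.card A ^ c) {C : ℕ} (hA : Nat.card (MulAut (socle P)) ^ c ≤ Fintype.card F ^ C) :
    Fintype.card ι * (Fintype.card ι - 1) / 2 ≤ C + 3 := by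
  have := H270.EP.finite_socle P
  have hF : 2 ≤ Fintype.card F := b.two_le
  have h1 : Nat.card A ^ c ≤ Fintype.card F ^ C := (Nat.pow_le_pow_left b.hasSoc.card_le c).trans hA
  have h2 : Fintype.card F ^ (Fintype.card ι * (Fintype.card ι - 1) / 2) ≤ Fintype.card F ^ (C + 3) := by
    calc Fintype.card F ^ (Fintype.card ι * (Fintype.card ι - 1) / 2) ≤ 8 * Nat.card Q := b.ord
      _ ≤ Fintype.card F ^ 3 * Fintype.card F ^ C := Nat.mul_le_mul
          (by have := Nat.pow_le_pow_left hF 3; omega) (hUB.trans h1)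
      _ = _ := by rw [← pow_add, add_comm]
  exact (Nat.pow_le_pow_iff_right (by omega)).1 h2

section ree

variable {K : Type} [Field K] [Fintype K] {l : ℕ}

theorem ree_two (l : ℕ) : ¬ 2 ^ 4 ∣ (2 * l + 1) * ((3 ^ (2 * l + 1)) ^ 3 * (3 ^ (2 * l + 1) - 1) * ((3 ^ (2 * l + 1)) ^ 3 + 1)) := by
  have h1 : 3 ^ (2 * l + 1) % 8 = 3 := by
    induction l with
    | zero => norm_num
    | succ l ih =>
      rw [show 2 * (l + 1) + 1 = (2 * l + 1) + 2 by ring, pow_add, Nat.mul_mod, ih]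
      norm_num
  obtain ⟨t, ht⟩ : ∃ t, 3 ^ (2 * l + 1) = 8 * t + 3 := ⟨3 ^ (2 * l + 1) / 8, by omega⟩
  rw [ht]
  have h2 : (2 * l + 1) * ((8 * t + 3) ^ 3 * (8 * t + 3 - 1) * ((8 * t + 3) ^ 3 + 1)) =
      8 * ((2 * l + 1) * ((8 * t + 3) ^ 3 * (4 * t + 1) * (128 * t ^ 3 + 144 * t ^ 2 + 54 * t + 7))) := by
    have h3 : 8 * t + 3 - 1 = 2 * (4 * t + 1) := by omega
    rw [h3]
    ring
  rw [h2, show (2 : ℕ) ^ 4 = 8 * 2 by norm_num, Nat.mul_dvd_mul_iff_left (by norm_num)]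
  intro h
  have h4 : Even ((2 * l + 1) * ((8 * t + 3) ^ 3 * (4 * t + 1) * (128 * t ^ 3 + 144 * t ^ 2 + 54 * t + 7))) :=
    even_iff_two_dvd.2 h
  rw [← Nat.not_odd_iff_even] at h4
  apply h4
  refine Odd.mul ⟨l, rfl⟩ (Odd.mul (Odd.mul (Odd.pow ⟨4 * t + 1, by ring⟩) ⟨2 * t, by ring⟩)
    ⟨64 * t ^ 3 + 72 * t ^ 2 + 27 * t + 3, by ring⟩)

theorem srank_ree (hl : 1 ≤ l) (hK : Fintype.card K = 3 ^ (2 * l + 1)) {s : ℕ} (hs : s.Prime) (h5 : 5 ≤ s) :
    SRank (MulAut ↥(Lie.twistedG2 K (3 ^ l))) s 2 := by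
  have : Fact s.Prime := ⟨hs⟩
  have hcyc : IsCyclic (K ≃+* K) := LieRecognition.FieldSemilinear.isCyclic_ringAut K
  have hsim : IsSimpleGroup ↥(Lie.twistedG2 K (3 ^ l)) := (Cfsg.Agent.S1073.result hl hK).1
  have hfin : Finite ↥(Lie.twistedG2 K (3 ^ l)) := inferInstance
  have hD := H28.T5RankOne.ree_data hl hK (p := s) h5
  have := H240.GenTwF.cyclic_out _ hD.aut
  exact srank_aut hD.center this hs.pos (srank_cyc hD.cyc)

theorem srank_ree_aut (hl : 1 ≤ l) (hK : Fintype.card K = 3 ^ (2 * l + 1)) {s : ℕ} (hs : s.Prime) (h3 : s ≠ 3) :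
    SRank (MulAut ↥(Lie.twistedG2 K (3 ^ l))) s 3 := by
  by_cases h2 : s = 2
  · subst h2
    have hsim : IsSimpleGroup ↥(Lie.twistedG2 K (3 ^ l)) := (Cfsg.Agent.S1073.result hl hK).1
    have hfin : Finite ↥(Lie.twistedG2 K (3 ^ l)) := inferInstance
    have hfinA : Finite (MulAut ↥(Lie.twistedG2 K (3 ^ l))) :=
      Finite.of_injective (fun a : MulAut ↥(Lie.twistedG2 K (3 ^ l)) => (a : _ → _)) DFunLike.coe_injective
    apply srank_of_not_dvd Nat.prime_two
    rw [H270.EP.card_aut (H28.T5RankOne.ree_na hl hK) (MulEquiv.refl ↥(Lie.twistedG2 K (3 ^ l))), S2127.result hl hK,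
      Cfsg.Agent.LieRecognition.ReeFinal.card hK]
    exact ree_two l
  · have h5 : 5 ≤ s := by
      have h4 := hs.two_le
      have h6 : s ≠ 4 := by
        rintro rfl
        exact absurd hs (by norm_num)
      omega
    exact (srank_ree hl hK hs h5).mono hs.pos (by norm_num)

end ree

/-- `|Q| ≤ |A| ^ 6` -/
theorem card_le_ree {Q : Type u} [Group Q] [Finite Q] {A : Subgroup Q} {Γ : Subgroup (MulAut Q)}
    (hs : IsSimpleGroup Q) (h : EPT A Γ) (hg : TwoGen.{u}) {K : Type} [Field K] [Fintype K] {l : ℕ} (hl : 1 ≤ l)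
    (hK : Fintype.card K = 3 ^ (2 * l + 1)) (hsoc : HasSoc A ↥(Lie.twistedG2 K (3 ^ l))) :
    Nat.card Q ≤ Nat.card A ^ 6 := by
  have h3p : Fact (Nat.Prime 3) := ⟨Nat.prime_three⟩
  have hsim : IsSimpleGroup ↥(Lie.twistedG2 K (3 ^ l)) := (Cfsg.Agent.S1073.result hl hK).1
  have hfin : Finite ↥(Lie.twistedG2 K (3 ^ l)) := inferInstance
  have hcyc : IsCyclic (K ≃+* K) := LieRecognition.FieldSemilinear.isCyclic_ringAut K
  have h5p : Fact (Nat.Prime 5) := ⟨by norm_num⟩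
  have hout := H240.GenTwF.cyclic_out _ (H28.T5RankOne.ree_data hl hK (p := 5) (by norm_num)).aut
  obtain ⟨N, hS, ⟨e⟩⟩ := lieSoc_of_ti (p := 3) hsoc hsim
    (fun h => H28.T5RankOne.ree_na hl hK ⟨⟨h⟩⟩) (H210.Loc.ti_ree ⟨K, _, _, l, hl, hK, ⟨MulEquiv.refl _⟩⟩) (by
      rw [Cfsg.Agent.LieRecognition.ReeFinal.card hK]
      exact ((dvd_pow (dvd_pow_self 3 (by omega)) (by norm_num)).mul_right _).mul_right _)
  exact card_le_rank hs h hg hS (hout_of_cyc hS e hout) (k := 3) (by norm_num)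
    (fun s hs hs3 => (srank_ree_aut hl hK hs hs3).of_hasSoc hsoc)
    (fun s hs hs5 => ((srank_ree hl hK hs hs5).of_hasSoc hsoc).mono hs.pos (by norm_num))

/-- **Ree groups, own characteristic, dimension at least 13.** -/
theorem own_ree {Q : Type} [Group Q] [Finite Q] {A : Subgroup Q} {Γ : Subgroup (MulAut Q)} {ι : Type} [Fintype ι]
    [DecidableEq ι] {F : Type} [Field F] [Fintype F] {S P : Subgroup (GL ι F)} (b : Big A Γ S P) (hg : TwoGen.{0})
    (hc : ringChar F = 3) (h : Lie.IsoRee (socle P)) : False := by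
  obtain ⟨K, _, _, l, hl, hK, ⟨e⟩⟩ := h
  have := H270.EP.charP_of_ringChar hc
  have hUB : Nat.card Q ≤ Nat.card A ^ 6 := card_le_ree b.simple b.ept hg hl hK (b.hasSoc' e)
  obtain ⟨s, hFs, h4⟩ := H270.EP.ree_deg (core_of_residual b.core) hl hK e
  have h1 := H270.EP.ree_aut b.core.nonabelian b.core.simple hl hK e
  have h2 : Nat.card (MulAut (socle P)) ^ 6 ≤ Fintype.card F ^ (48 * s) := by
    calc Nat.card (MulAut (socle P)) ^ 6 ≤ ((3 ^ (2 * l + 1)) ^ 8) ^ 6 := Nat.pow_le_pow_left h1 6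
      _ = Fintype.card F ^ (48 * s) := by
        rw [← hFs, Nat.card_eq_fintype_card, ← pow_mul, ← pow_mul]
        congr 1
        ring
  have h3 := le_of_big' b hUB h2
  have h13 := b.thirteen
  rcases h4 with rfl | ⟨hs3, h4⟩
  · have := H270.EP.tri_mono h13
    norm_num at this
    omega
  · have h8 : ∀ s : ℕ, 3 ≤ s → 8 * s + 1 ≤ 3 ^ s - 2 := by
      intro s hs
      have : 8 * s + 3 ≤ 3 ^ s := by
        induction s, hs using Nat.le_induction with
        | base => norm_num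
        | succ s hs ih => rw [pow_succ]; omega
      omega
    have h9 : 8 * s + 1 ≤ Fintype.card ι := by
      have := h8 s hs3
      have h10 : 3 ^ s ≤ 4 ^ s := Nat.pow_le_pow_left (by norm_num) s
      omega
    have h5 := H270.EP.tri_mono h9
    have h6 : (8 * s + 1) * (8 * s + 1 - 1) / 2 = (8 * s + 1) * (4 * s) := by
      rw [Nat.add_sub_cancel, show (8 * s + 1) * (8 * s) = 2 * ((8 * s + 1) * (4 * s)) by ring]
      exact Nat.mul_div_cancel_left _ (by norm_num)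
    rw [h6] at h5
    obtain ⟨t, rfl⟩ : ∃ t, s = t + 3 := ⟨s - 3, by omega⟩
    nlinarith

end Cfsg.Agent.H752.EP
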