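import Cfsg.Agent.H752.EP.Ree

/-!
# S3499, dimension at least 13: Suzuki groups in characteristic two (helper752)

`card_le_sz`: `|Q| ≤ |A|^5`; `own_sz` : Suzuki groups do not occur.
-/

set_option autoImplicit false
set_option linter.unusedSectionVars false

namespace Cfsg.Agent.H752.EP

open Cfsg Matrix Subgroup Cfsg.Agent.H284 Cfsg.Agent.H59.EP Cfsg.Agent.H12.EP.BT Cfsg.Agent.H419.EP
open Cfsg.Geo Cfsg.Agent.H915.LD

universe u

theorem srank_sz {K : Type} [Field K] [Fintype K] {l : ℕ} (hl : 1 ≤ l) (hK : Fintype.card K = 2 ^ (2 * l + 1)) {s : ℕ}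
    (hs : s.Prime) (h2 : s ≠ 2) : SRank (MulAut ↥(Lie.Sz K (2 ^ (l + 1)))) s 2 := by
  have : Fact s.Prime := ⟨hs⟩
  have hcyc : IsCyclic (K ≃+* K) := LieRecognition.FieldSemilinear.isCyclic_ringAut K
  have hsim : IsSimpleGroup ↥(Lie.Sz K (2 ^ (l + 1))) := Cfsg.Agent.S1162.result hl hK
  have hfin : Finite ↥(Lie.Sz K (2 ^ (l + 1))) := inferInstance
  have hD := H28.T5RankOne.sz_data hl hK (p := s) h2
  have := H240.GenTwF.cyclic_out _ hD.aut
  exact srank_aut hD.center this hs.pos (srank_cyc hD.cyc)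

/-- `|Q| ≤ |A| ^ 5` -/
theorem card_le_sz {Q : Type u} [Group Q] [Finite Q] {A : Subgroup Q} {Γ : Subgroup (MulAut Q)}
    (hs : IsSimpleGroup Q) (h : EPT A Γ) (hg : TwoGen.{u}) {K : Type} [Field K] [Fintype K] {l : ℕ} (hl : 1 ≤ l)
    (hK : Fintype.card K = 2 ^ (2 * l + 1)) (hsoc : HasSoc A ↥(Lie.Sz K (2 ^ (l + 1)))) :
    Nat.card Q ≤ Nat.card A ^ 5 := by
  have h2p : Fact (Nat.Prime 2) := ⟨Nat.prime_two⟩
  have hsim : IsSimpleGroup ↥(Lie.Sz K (2 ^ (l + 1))) := Cfsg.Agent.S1162.result hl hK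
  have hfin : Finite ↥(Lie.Sz K (2 ^ (l + 1))) := inferInstance
  have hcyc : IsCyclic (K ≃+* K) := LieRecognition.FieldSemilinear.isCyclic_ringAut K
  have h5p : Fact (Nat.Prime 5) := ⟨by norm_num⟩
  have hout := H240.GenTwF.cyclic_out _ (H28.T5RankOne.sz_data hl hK (p := 5) (by norm_num)).aut
  obtain ⟨N, hS, ⟨e⟩⟩ := lieSoc_of_ti (p := 2) hsoc hsim
    (fun h => H28.T5RankOne.sz_na hl hK ⟨⟨h⟩⟩) (H210.Loc.ti_suzuki ⟨K, _, _, l, hl, hK, ⟨MulEquiv.refl _⟩⟩) (by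
      rw [(Cfsg.Agent.S1163.result hl hK).1]
      exact ((dvd_pow (dvd_pow_self 2 (by omega)) (by norm_num)).mul_right _).mul_right _)
  exact card_le_rank hs h hg hS (hout_of_cyc hS e hout) (k := 2) le_rfl
    (fun s hs hs2 => (srank_sz hl hK hs hs2).of_hasSoc hsoc)
    (fun s hs hs5 => ((srank_sz hl hK hs (by omega)).of_hasSoc hsoc).mono hs.pos (by norm_num))

/-- **Suzuki groups, own characteristic, dimension at least 13.** -/
theorem own_sz {Q : Type} [Group Q] [Finite Q] {A : Subgroup Q} {Γ : Subgroup (MulAut Q)} {ι : Type} [Fintype ι]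
    [DecidableEq ι] {F : Type} [Field F] [Fintype F] {S P : Subgroup (GL ι F)} (b : Big A Γ S P) (hg : TwoGen.{0})
    (hc : ringChar F = 2) (h : Lie.IsoSuzuki (socle P)) : False := by
  obtain ⟨K, _, _, l, hl, hK, ⟨e⟩⟩ := id h
  exact H270.EP.own_sz (c := 5) b (by norm_num) (card_le_sz b.simple b.ept hg hl hK (b.hasSoc' e)) hc h

end Cfsg.Agent.H752.EP
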