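import Mathlib

/-!
# The `s`-rank of `PGL_n`: commuting case (helper752)

`torus_index`: `ρ : Y →* GL_n(F)` with commuting image, all `ρ(x)^s` scalar, `s` a prime different from the characteristic:
the elements with scalar image form a subgroup of index at most `s^(n-1)`.
-/

set_option autoImplicit false

open Polynomial Module

namespace Cfsg.Agent.H752.EP

variable {F : Type*} [Field F] {n : ℕ}

/-- the operator over the algebraic closure -/
noncomputable def Tm (F : Type*) [Field F] (n : ℕ) :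
    Matrix (Fin n) (Fin n) F →+* Module.End (AlgebraicClosure F) (Fin n → AlgebraicClosure F) :=
  (Matrix.toLinAlgEquiv' (R := AlgebraicClosure F) (n := Fin n)).toRingEquiv.toRingHom.comp
    (algebraMap F (AlgebraicClosure F)).mapMatrix

theorem Tm_scalar (c : F) : Tm F n (Matrix.scalar (Fin n) c) = (algebraMap F (AlgebraicClosure F) c) • 1 := by
  have h1 : (algebraMap F (AlgebraicClosure F)).mapMatrix (Matrix.scalar (Fin n) c) =
      (algebraMap F (AlgebraicClosure F) c) • 1 := by
    ext i j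
    by_cases hij : i = j
    · subst hij
      simp
    · simp [hij]
  show Matrix.toLinAlgEquiv' ((algebraMap F (AlgebraicClosure F)).mapMatrix (Matrix.scalar (Fin n) c)) = _
  rw [h1, map_smul, map_one]

theorem scalar_of_Tm [NeZero n] {A : Matrix (Fin n) (Fin n) F} {l : AlgebraicClosure F} (h : Tm F n A = l • 1) :
    ∃ c : F, A = Matrix.scalar (Fin n) c := by
  have h1 : (algebraMap F (AlgebraicClosure F)).mapMatrix A = l • 1 := by
    have h2 : Matrix.toLinAlgEquiv' ((algebraMap F (AlgebraicClosure F)).mapMatrix A) =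
        Matrix.toLinAlgEquiv' (l • (1 : Matrix (Fin n) (Fin n) (AlgebraicClosure F))) := by
      rw [map_smul, map_one]
      exact h
    exact Matrix.toLinAlgEquiv'.injective h2
  have h2 : ∀ i j, algebraMap F (AlgebraicClosure F) (A i j) = (l • (1 : Matrix (Fin n) (Fin n) (AlgebraicClosure F))) i j := by
    intro i j
    rw [← h1]
    rfl
  refine ⟨A 0 0, ?_⟩
  ext i j
  apply (algebraMap F (AlgebraicClosure F)).injective
  rw [h2]
  by_cases hij : i = j
  · subst hij
    rw [Matrix.scalar_apply, Matrix.diagonal_apply_eq, h2]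
    simp
  · rw [Matrix.scalar_apply, Matrix.diagonal_apply_ne _ hij, map_zero, Matrix.smul_apply, Matrix.one_apply_ne hij, smul_zero]

/-- **the commuting case** -/
theorem torus_index [NeZero n] {s : ℕ} (hs : s.Prime) (hsF : (s : F) ≠ 0) {Y : Type*} [Group Y]
    (ρ : Y →* GL (Fin n) F) (hcomm : ∀ x y, ρ x * ρ y = ρ y * ρ x)
    (hpow : ∀ x, ∃ c : F, ((ρ x : Matrix (Fin n) (Fin n) F)) ^ s = Matrix.scalar (Fin n) c)
    (Z : Subgroup Y) (hZ : ∀ x, (∃ c : F, (ρ x : Matrix (Fin n) (Fin n) F) = Matrix.scalar (Fin n) c) → x ∈ Z) :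
    Z.index ≠ 0 ∧ Z.index ≤ s ^ (n - 1) := by
  classical
  set K := AlgebraicClosure F with hK
  set T : Y → Module.End K (Fin n → K) := fun x => Tm F n (ρ x : Matrix (Fin n) (Fin n) F) with hT
  have hTm : ∀ x y, T (x * y) = T x * T y := fun x y => by
    show Tm F n (ρ (x * y) : Matrix (Fin n) (Fin n) F) = _
    rw [map_mul, Units.val_mul, map_mul]
  have hT1 : T 1 = 1 := by
    show Tm F n (ρ 1 : Matrix (Fin n) (Fin n) F) = 1
    rw [map_one, Units.val_one, map_one]
  have hTc : ∀ x y, Commute (T x) (T y) := by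
    intro x y
    show T x * T y = T y * T x
    rw [← hTm, ← hTm]
    show Tm F n (ρ (x * y) : Matrix (Fin n) (Fin n) F) = Tm F n (ρ (y * x) : Matrix (Fin n) (Fin n) F)
    rw [map_mul, map_mul, hcomm]
  have hsK : (s : K) ≠ 0 := by
    intro h
    apply hsF
    apply (algebraMap F K).injective
    rw [map_natCast, map_zero, h]
  -- the `s`-th powers
  have hTs : ∀ x, ∃ c : K, c ≠ 0 ∧ T x ^ s = c • 1 := by
    intro x
    obtain ⟨c, hc⟩ := hpow x
    refine ⟨algebraMap F K c, ?_, ?_⟩
    · intro h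
      have hc0 : c = 0 := (algebraMap F K).injective (by rw [h, map_zero])
      rw [hc0, map_zero] at hc
      have h1 : ((ρ x ^ s : GL (Fin n) F) : Matrix (Fin n) (Fin n) F) = 0 := by rw [Units.val_pow_eq_pow_val, hc]
      exact (ρ x ^ s).ne_zero h1
    · show Tm F n (ρ x : Matrix (Fin n) (Fin n) F) ^ s = _
      rw [← map_pow, hc, Tm_scalar]
  -- semisimplicity
  have hss : ∀ x μ, (T x).maxGenEigenspace μ = (T x).eigenspace μ := by
    intro x μ
    obtain ⟨c, hc, h1⟩ := hTs x
    have hsep : (X ^ s - C c : K[X]).Separable := separable_X_pow_sub_C c hsK hc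
    have h2 : aeval (T x) (X ^ s - C c : K[X]) = 0 := by
      rw [map_sub, map_pow, aeval_X, aeval_C, h1, Algebra.algebraMap_eq_smul_one, sub_self]
    have h3 := Module.End.isSemisimple_of_squarefree_aeval_eq_zero hsep.squarefree h2
    exact Module.End.IsFinitelySemisimple.maxGenEigenspace_eq_eigenspace h3.isFinitelySemisimple μ
  set W : (Y → K) → Submodule K (Fin n → K) := fun χ => ⨅ x, (T x).maxGenEigenspace (χ x) with hW
  have htop : ⨆ χ, W χ = ⊤ :=
    Module.End.iSup_iInf_maxGenEigenspace_eq_top_of_iSup_maxGenEigenspace_eq_top_of_commute T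
      (fun x y _ => hTc x y) (fun x => Module.End.iSup_maxGenEigenspace_eq_top (T x))
  have hind : iSupIndep W := Module.End.independent_iInf_maxGenEigenspace_of_forall_mapsTo T
    (fun x y φ => Module.End.mapsTo_maxGenEigenspace_of_comm (hTc y x) φ)
  have hev : ∀ χ, ∀ v ∈ W χ, ∀ x, T x v = χ x • v := by
    intro χ v hv x
    have h1 : v ∈ (T x).maxGenEigenspace (χ x) := (Submodule.mem_iInf _).1 hv x
    rw [hss] at h1
    exact Module.End.mem_eigenspace_iff.1 h1
  -- the characters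
  have hfin : Finite {χ // W χ ≠ ⊥} := by
    exact (WellFoundedGT.finite_ne_bot_of_iSupIndep hind).to_subtype
  have : Fintype {χ // W χ ≠ ⊥} := Fintype.ofFinite _
  have hcard : Fintype.card {χ // W χ ≠ ⊥} ≤ n := by
    have h1 := hind.subtype_ne_bot_le_finrank
    rwa [Module.finrank_fin_fun] at h1
  obtain ⟨χ0, hχ0⟩ : ∃ χ, W χ ≠ ⊥ := by
    by_contra hcon
    push Not at hcon
    rw [iSup_congr hcon, iSup_bot] at htop
    have h1 : (fun _ => 1 : Fin n → K) ∈ (⊥ : Submodule K (Fin n → K)) := by rw [htop]; trivial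
    rw [Submodule.mem_bot] at h1
    exact one_ne_zero (congrFun h1 0)
  have hmul : ∀ χ, W χ ≠ ⊥ → ∀ x y, χ (x * y) = χ x * χ y := by
    intro χ hχ x y
    obtain ⟨v, hv, hv0⟩ := Submodule.exists_mem_ne_zero_of_ne_bot hχ
    have h1 := hev χ v hv (x * y)
    rw [hTm, Module.End.mul_apply, hev χ v hv y, map_smul, hev χ v hv x, smul_smul] at h1
    have h2 : χ y * χ x = χ (x * y) := smul_left_injective K hv0 h1
    rw [← h2, mul_comm]
  have hpw : ∀ χ, W χ ≠ ⊥ → ∀ x, χ x ≠ 0 ∧ ∀ χ', W χ' ≠ ⊥ → χ x ^ s = χ' x ^ s := by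
    intro χ hχ x
    obtain ⟨c, hc, h1⟩ := hTs x
    have key : ∀ χ, W χ ≠ ⊥ → χ x ^ s = c := by
      intro χ hχ
      obtain ⟨v, hv, hv0⟩ := Submodule.exists_mem_ne_zero_of_ne_bot hχ
      have h3 : ∀ k : ℕ, (T x ^ k) v = (χ x ^ k) • v := by
        intro k
        induction k with
        | zero => simp
        | succ k ih => rw [pow_succ, Module.End.mul_apply, hev χ v hv x, map_smul, ih, smul_smul, pow_succ, mul_comm]
      have h4 := h3 s
      rw [h1, LinearMap.smul_apply, Module.End.one_apply] at h4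
      exact (smul_left_injective K hv0 h4).symm
    refine ⟨fun h => hc ?_, fun χ' hχ' => (key χ hχ).trans (key χ' hχ').symm⟩
    rw [← key χ hχ, h, zero_pow hs.ne_zero]
  -- the map
  let R : Finset K := nthRootsFinset s (1 : K)
  have hR : R.card ≤ s := by
    have h1 := Polynomial.card_nthRoots s (1 : K)
    refine le_trans ?_ h1
    show (nthRootsFinset s (1 : K)).card ≤ _
    unfold nthRootsFinset
    exact Multiset.toFinset_card_le _
  let I := {χ : {χ // W χ ≠ ⊥} // (χ : Y → K) ≠ χ0}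
  have hI : Fintype.card I ≤ n - 1 := by
    have h1 : Fintype.card I < Fintype.card {χ // W χ ≠ ⊥} :=
      Fintype.card_subtype_lt (x := ⟨χ0, hχ0⟩) (fun h => h rfl)
    omega
  let f : Y → (I → R) := fun x i => ⟨i.1.1 x / χ0 x, by
    rw [Polynomial.mem_nthRootsFinset hs.pos, div_pow, (hpw _ i.1.2 x).2 χ0 hχ0, div_self]
    exact pow_ne_zero _ (hpw χ0 hχ0 x).1⟩
  have hf : ∀ x y, f x = f y → x⁻¹ * y ∈ Z := by
    intro x y h
    apply hZ
    have hr : ∀ χ, W χ ≠ ⊥ → χ (x⁻¹ * y) = χ0 (x⁻¹ * y) := by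
      intro χ hχ
      by_cases hχ' : χ = χ0
      · rw [hχ']
      · have h1 := congrArg Subtype.val (congrFun h ⟨⟨χ, hχ⟩, hχ'⟩)
        have h2 : χ x / χ0 x = χ y / χ0 y := h1
        have h3 := hmul χ hχ x (x⁻¹ * y)
        have h4 := hmul χ0 hχ0 x (x⁻¹ * y)
        rw [mul_inv_cancel_left] at h3 h4
        rw [h3, h4, div_eq_div_iff (hpw χ0 hχ0 x).1 (mul_ne_zero (hpw χ0 hχ0 x).1 (hpw χ0 hχ0 _).1)] at h2
        have h5 : χ x * χ0 x ≠ 0 := mul_ne_zero (hpw χ hχ x).1 (hpw χ0 hχ0 x).1
        apply mul_left_cancel₀ h5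
        linear_combination -h2
    apply scalar_of_Tm (l := χ0 (x⁻¹ * y))
    show T (x⁻¹ * y) = _
    have h1 : (⊤ : Submodule K (Fin n → K)) ≤ LinearMap.eqLocus (T (x⁻¹ * y)) ((χ0 (x⁻¹ * y)) • 1) := by
      rw [← htop]
      refine iSup_le fun χ v hv => ?_
      by_cases hχ : W χ = ⊥
      · rw [hχ, Submodule.mem_bot] at hv
        rw [hv]
        exact Submodule.zero_mem _
      · show T (x⁻¹ * y) v = ((χ0 (x⁻¹ * y)) • (1 : Module.End K (Fin n → K))) v
        rw [hev χ v hv, hr χ hχ]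
        rfl
    exact LinearMap.ext fun v => h1 (Submodule.mem_top)
  have hinj : Function.Injective (fun q : Y ⧸ Z => f q.out) := by
    intro q q' h
    have h1 := hf _ _ h
    rw [← QuotientGroup.eq] at h1
    rwa [QuotientGroup.out_eq', QuotientGroup.out_eq'] at h1
  have hfq : Finite (Y ⧸ Z) := Finite.of_injective _ hinj
  refine ⟨?_, ?_⟩
  · exact Subgroup.index_ne_zero_of_finite
  · calc Z.index = Nat.card (Y ⧸ Z) := rfl
      _ ≤ Nat.card (I → R) := Nat.card_le_card_of_injective _ hinj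
      _ = R.card ^ Fintype.card I := by
        rw [Nat.card_eq_fintype_card, Fintype.card_fun, Fintype.card_coe]
      _ ≤ s ^ Fintype.card I := Nat.pow_le_pow_left hR _
      _ ≤ s ^ (n - 1) := Nat.pow_le_pow_right hs.pos hI

end Cfsg.Agent.H752.EP
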